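import Cfsg.Agent.H233.B3.Row
import Cfsg.Prelude.Def_KGroupFacts

/-!
# Tools for the rows `Row3 2 T` of S5761, second part (helper233)

* `fifteen_le` : a 2-subgroup of a nonabelian simple group has index at least 15;
* `g3_of_one` : `P ∩ P ^ x` with at most one involution and `3 |P ∩ P ^ x| < |T : P ∩ T|`;
* `g3_of_two` : `|P ∩ P ^ x| ≤ 2`;
* `g3_of_meet`, `row3_of_meet` : from `Meet`;
* `g3_of_le` : from a trivial intersection for a subgroup `P₁ ≥ P ∩ Inn T` of index at most 2;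
* `row3_of_meetIn` : `MeetIn 2 T` and `|Out T| ≤ 2`.
-/

set_option autoImplicit false

namespace Cfsg.Agent.H233.B3

open Subgroup Cfsg.Agent.H903.SylMeet

variable {T : Type*} [Group T]

/-- A nonabelian simple group has no 2-subgroup of index less than 15. -/
theorem fifteen_le [Finite T] [IsSimpleGroup T] (hT : ¬ IsMulCommutative T) (Q : Subgroup T) (hQ : IsPGroup 2 Q) :
    15 ≤ Q.index := by
  have hF : Fact (Nat.Prime 2) := ⟨Nat.prime_two⟩
  obtain ⟨S, hS⟩ := hQ.exists_le_sylow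
  have h1 : (S : Subgroup T).index ∣ Q.index := Subgroup.index_dvd_of_le hS
  have h0 : Q.index ≠ 0 := Subgroup.index_ne_zero_of_finite
  refine le_trans ?_ (Nat.le_of_dvd (Nat.pos_of_ne_zero h0) h1)
  by_contra hlt
  push Not at hlt
  have h2 : ¬ 2 ∣ (S : Subgroup T).index := S.not_dvd_index
  obtain ⟨a, ha⟩ := S.isPGroup'.exists_card_eq
  have h3 := Subgroup.index_mul_card (S : Subgroup T)
  have hcS : Nat.card (S : Subgroup T) = 2 ^ a := ha
  rw [hcS] at h3
  have key : ∀ r b : ℕ, r.Prime → (S : Subgroup T).index = r ^ b → False := by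
    intro r b hr hb
    apply hT
    have hs : Group.IsSolvable T := Cfsg.Agent.S0144.result 2 r a b Nat.prime_two hr (by rw [← h3, hb, mul_comm])
    have hc := IsSimpleGroup.comm_iff_isSolvable.2 hs
    exact ⟨⟨hc⟩⟩
  have hpos : 0 < (S : Subgroup T).index := Nat.pos_of_ne_zero Subgroup.index_ne_zero_of_finite
  generalize (S : Subgroup T).index = m at *
  interval_cases m
  · exact key 3 0 (by norm_num) (by norm_num)
  · omega
  · exact key 3 1 (by norm_num) (by norm_num)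
  · omega
  · exact key 5 1 (by norm_num) (by norm_num)
  · omega
  · exact key 7 1 (by norm_num) (by norm_num)
  · omega
  · exact key 3 2 (by norm_num) (by norm_num)
  · omega
  · exact key 11 1 (by norm_num) (by norm_num)
  · omega
  · exact key 13 1 (by norm_num) (by norm_num)
  · omega

theorem exists_inv_pow {G : Type*} [Group G] {y : G} {n : ℕ} (h : y ^ 2 ^ n = 1) (hy : y ≠ 1) :
    ∃ k : ℕ, y ^ 2 ^ k ≠ 1 ∧ y ^ 2 ^ k * y ^ 2 ^ k = 1 := by
  classical
  have hex : ∃ n : ℕ, y ^ 2 ^ n = 1 := ⟨n, h⟩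
  have h1 := Nat.find_spec hex
  have h2 : Nat.find hex ≠ 0 := by
    intro h0
    rw [h0, pow_zero, pow_one] at h1
    exact hy h1
  obtain ⟨k, hk⟩ := Nat.exists_eq_succ_of_ne_zero h2
  refine ⟨k, Nat.find_min hex (by omega), ?_⟩
  rw [← pow_add, ← two_mul, ← pow_succ']
  rw [hk] at h1
  exact h1

/-- **One involution.** -/
theorem g3_of_one [Finite T] [IsSimpleGroup T] (hT : ¬ IsMulCommutative T) {P : Subgroup (MulAut T)}
    (hP : IsPGroup 2 P) (x : T)
    (hone : ∀ y ∈ DD P x, ∀ y' ∈ DD P x, y * y = 1 → y' * y' = 1 → y ≠ 1 → y' ≠ 1 → y = y')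
    (hn : 3 * Nat.card (DD P x) < (inn P).index) : G3 P := by
  have hinj : Function.Injective (MulAut.conj : T →* MulAut T) := conj_injective hT
  have hcard := Subgroup.index_mul_card (inn P)
  have hpos : 0 < Nat.card (inn P) := Nat.card_pos
  apply g3_of_count x
  have hpow : ∀ (z : T) (y : MulAut T), y ∈ DD P x → MulAut.conj z * y * (MulAut.conj z)⁻¹ ∈ P → y ≠ 1 →
      ∃ d ∈ DD P x, d ≠ 1 ∧ d * d = 1 ∧ MulAut.conj z * d * (MulAut.conj z)⁻¹ ∈ P := by
    intro z y hy hz hy1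
    obtain ⟨n, hn⟩ := hP ⟨y, hy.1⟩
    obtain ⟨k, hk1, hk2⟩ := exists_inv_pow (n := n) (by simpa using congrArg Subtype.val hn) hy1
    refine ⟨y ^ 2 ^ k, pow_mem hy _, hk1, hk2, ?_⟩
    have := pow_mem hz (2 ^ k)
    rwa [conj_pow] at this
  by_cases hex : ∃ d ∈ DD P x, d ≠ 1 ∧ d * d = 1
  · obtain ⟨d, hd, hd1, hdd⟩ := hex
    obtain ⟨R, hR1, hR2, hR3⟩ := exists_inverted hT hdd hd1
    have hbad := card_bad hinj hP R hR1 hR3
    have hle : Nat.card {z : T // ¬ MulAut.conj z * d * (MulAut.conj z)⁻¹ ∈ P} ≤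
        Nat.card {z : T // ∀ y ∈ DD P x, MulAut.conj z * y * (MulAut.conj z)⁻¹ ∈ P → y = 1} := by
      refine Nat.card_le_card_of_injective (fun z => ⟨z.1, fun y hy hyz => ?_⟩) ?_
      · by_contra hy1
        obtain ⟨d', hd', hd1', hdd', hz⟩ := hpow z y hy hyz hy1
        rw [hone d' hd' d hd hdd' hdd hd1' hd1] at hz
        exact z.2 hz
      · intro z z' h
        have h' := congrArg (fun w : {z : T // ∀ y ∈ DD P x, MulAut.conj z * y * (MulAut.conj z)⁻¹ ∈ P → y = 1} => (w : T)) h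
        exact Subtype.ext h'
    have hsum : Nat.card {z : T // MulAut.conj z * d * (MulAut.conj z)⁻¹ ∈ P} +
        Nat.card {z : T // ¬ MulAut.conj z * d * (MulAut.conj z)⁻¹ ∈ P} = Nat.card T := by
      classical
      have _ : Fintype T := Fintype.ofFinite T
      rw [← Nat.card_sum]
      exact Nat.card_congr (Equiv.sumCompl _)
    refine lt_of_lt_of_le ?_ hle
    set b := Nat.card {z : T // MulAut.conj z * d * (MulAut.conj z)⁻¹ ∈ P} with hb
    set g := Nat.card {z : T // ¬ MulAut.conj z * d * (MulAut.conj z)⁻¹ ∈ P} with hg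
    have h1 : 3 * b ≤ Nat.card T := (Nat.mul_le_mul_right b hR2).trans hbad
    have h2 : 3 * (Nat.card (DD P x) * Nat.card (inn P)) < Nat.card T := by
      rw [← hcard, ← mul_assoc]
      exact Nat.mul_lt_mul_of_pos_right hn hpos
    omega
  · have hle : Nat.card T ≤
        Nat.card {z : T // ∀ y ∈ DD P x, MulAut.conj z * y * (MulAut.conj z)⁻¹ ∈ P → y = 1} := by
      refine Nat.card_le_card_of_injective (fun z => ⟨z, fun y hy hyz => ?_⟩) ?_
      · by_contra hy1
        obtain ⟨d', hd', hd1', hdd', -⟩ := hpow z y hy hyz hy1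
        exact hex ⟨d', hd', hd1', hdd'⟩
      · intro z z' h
        exact congrArg (fun w : {z : T // ∀ y ∈ DD P x, MulAut.conj z * y * (MulAut.conj z)⁻¹ ∈ P → y = 1} => (w : T)) h
    refine lt_of_lt_of_le ?_ hle
    have h2 : 3 * (Nat.card (DD P x) * Nat.card (inn P)) < Nat.card T := by
      rw [← hcard, ← mul_assoc]
      exact Nat.mul_lt_mul_of_pos_right hn hpos
    omega

theorem inn_pgroup (hT : ¬ IsMulCommutative T) [IsSimpleGroup T] {p : ℕ} {P : Subgroup (MulAut T)}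
    (hP : IsPGroup p P) : IsPGroup p (inn P) :=
  hP.comap_of_injective _ (conj_injective hT)

/-- **`|P ∩ P ^ x| ≤ 4` with at most one involution.** -/
theorem g3_of_four [Finite T] [IsSimpleGroup T] (hT : ¬ IsMulCommutative T) {P : Subgroup (MulAut T)}
    (hP : IsPGroup 2 P) (x : T)
    (hone : ∀ y ∈ DD P x, ∀ y' ∈ DD P x, y * y = 1 → y' * y' = 1 → y ≠ 1 → y' ≠ 1 → y = y')
    (h4 : Nat.card (DD P x) ≤ 4) : G3 P := by
  have h := fifteen_le hT (inn P) (inn_pgroup hT hP)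
  exact g3_of_one hT hP x hone (by omega)

/-- **`|P ∩ P ^ x| ≤ 2`.** -/
theorem g3_of_two [Finite T] [IsSimpleGroup T] (hT : ¬ IsMulCommutative T) {P : Subgroup (MulAut T)}
    (hP : IsPGroup 2 P) (x : T) (h2 : Nat.card (DD P x) ≤ 2) : G3 P := by
  refine g3_of_four hT hP x ?_ (by omega)
  intro y hy y' hy' _ _ h1 h1'
  by_contra hne
  let f : Fin 3 → DD P x := ![1, ⟨y, hy⟩, ⟨y', hy'⟩]
  have hf : Function.Injective f := by
    intro i j h
    have h' := congrArg Subtype.val h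
    fin_cases i <;> fin_cases j <;> first | rfl | exfalso
    · exact h1 h'.symm
    · exact h1' h'.symm
    · exact h1 h'
    · exact hne h'
    · exact h1' h'
    · exact hne h'.symm
  have h3 := Nat.card_le_card_of_injective f hf
  rw [Nat.card_fin] at h3
  omega

/-- A proper subgroup of a nonabelian simple group has index at least 3. -/
theorem three_le_index [Finite T] [IsSimpleGroup T] (hT : ¬ IsMulCommutative T) {p : ℕ} [Fact p.Prime]
    (Q : Subgroup T) (hQ : IsPGroup p Q) : 3 ≤ Q.index := by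
  have h0 : Q.index ≠ 0 := Subgroup.index_ne_zero_of_finite
  have htop : Q ≠ ⊤ := by
    intro h
    have h4 : IsPGroup p T := by
      intro t
      have ht : t ∈ Q := by rw [h]; trivial
      obtain ⟨k, hk⟩ := hQ ⟨t, ht⟩
      exact ⟨k, by simpa using congrArg Subtype.val hk⟩
    have : Nontrivial T := IsSimpleGroup.toNontrivial
    have h5 := h4.center_nontrivial
    rw [center_eq_bot hT] at h5
    exact absurd h5 (not_nontrivial _)
  have h1 : Q.index ≠ 1 := fun h => htop (Subgroup.index_eq_one.1 h)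
  have h2 : Q.index ≠ 2 := by
    intro h
    have hn : Q.Normal := Subgroup.normal_of_index_eq_two h
    rcases hn.eq_bot_or_eq_top with hb | ht
    · apply hT
      rw [hb, Subgroup.index_bot] at h
      have hc : IsCyclic T := by
        have : Fact (Nat.Prime 2) := ⟨Nat.prime_two⟩
        exact isCyclic_of_prime_card h
      exact ⟨⟨fun a b => by
        obtain ⟨g, hg⟩ := hc.exists_generator
        obtain ⟨i, rfl⟩ := mem_zpowers_iff.1 (hg a)
        obtain ⟨j, rfl⟩ := mem_zpowers_iff.1 (hg b)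
        rw [← zpow_add, ← zpow_add, add_comm]⟩⟩
    · exact htop ht
  omega

theorem g3_of_meet [Finite T] [IsSimpleGroup T] (hT : ¬ IsMulCommutative T) {p : ℕ} [Fact p.Prime]
    {P : Subgroup (MulAut T)} (hP : IsPGroup p P) (x : T)
    (hx : ∀ y ∈ P, MulAut.conj x * y * (MulAut.conj x)⁻¹ ∈ P → y = 1) : G3 P := by
  have h := three_le_index hT (inn P) (inn_pgroup hT hP)
  have hcard := Subgroup.index_mul_card (inn P)
  have hpos : 0 < Nat.card (inn P) := Nat.card_pos
  have hD : DD P x = ⊥ := by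
    rw [eq_bot_iff]
    intro y hy
    exact hx y hy.1 hy.2
  apply g3_of_count x
  have hle : Nat.card T ≤
      Nat.card {z : T // ∀ y ∈ DD P x, MulAut.conj z * y * (MulAut.conj z)⁻¹ ∈ P → y = 1} := by
    refine Nat.card_le_card_of_injective (fun z => ⟨z, fun y hy _ => hx y hy.1 hy.2⟩) ?_
    · intro z z' h
      exact congrArg (fun w : {z : T // ∀ y ∈ DD P x, MulAut.conj z * y * (MulAut.conj z)⁻¹ ∈ P → y = 1} => (w : T)) h
  refine lt_of_lt_of_le ?_ hle
  rw [hD]
  have h1 : Nat.card (⊥ : Subgroup (MulAut T)) = 1 := Subgroup.card_bot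
  rw [h1, one_mul, ← hcard]
  exact Nat.mul_lt_mul_of_pos_right (by omega) hpos

/-- **`Meet p T` implies `Row3 p T`.** -/
theorem row3_of_meet [Finite T] [IsSimpleGroup T] (hT : ¬ IsMulCommutative T) {p : ℕ} [Fact p.Prime]
    (h : Meet p T) : Row3 p T := by
  intro P hP
  obtain ⟨x, hx⟩ := h P hP
  exact g3_of_meet hT hP x hx

/-- `P ∩ P ^ x` injects into `Aut T / A` if it meets `A` trivially. -/
theorem card_DD_le [Finite T] {P : Subgroup (MulAut T)} {x : T} (A : Subgroup (MulAut T))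
    (h : ∀ y ∈ DD P x, y ∈ A → y = 1) : Nat.card (DD P x) ≤ A.index := by
  refine Nat.card_le_card_of_injective (fun y : DD P x => ((y : MulAut T) : MulAut T ⧸ A)) ?_
  intro y y' e
  have h1 : (y : MulAut T)⁻¹ * y' ∈ A := QuotientGroup.eq.1 e
  have h2 := h _ (mul_mem (inv_mem y.2) y'.2) h1
  exact Subtype.ext (inv_mul_eq_one.1 h2)

/-- relative form of `card_DD_le` -/
theorem card_DD_le_rel [Finite T] {P : Subgroup (MulAut T)} {x : T} (P₁ : Subgroup (MulAut T))
    (h : ∀ y ∈ DD P x, y ∈ P₁ → y = 1) : Nat.card (DD P x) ≤ P₁.relIndex P := by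
  refine Nat.card_le_card_of_injective
    (fun y : DD P x => (((⟨y, y.2.1⟩ : P) : P) : P ⧸ P₁.subgroupOf P)) ?_
  intro y y' e
  have h1 : (⟨y, y.2.1⟩ : P)⁻¹ * ⟨y', y'.2.1⟩ ∈ P₁.subgroupOf P := QuotientGroup.eq.1 e
  have h2 := h ((y : MulAut T)⁻¹ * y') (mul_mem (inv_mem y.2) y'.2) h1
  exact Subtype.ext (inv_mul_eq_one.1 h2)

theorem conj_mem_of_inn {P P₁ : Subgroup (MulAut T)} (hinn : ∀ t : T, MulAut.conj t ∈ P → MulAut.conj t ∈ P₁)
    (hle : P₁ ≤ P) {x : T} {y : MulAut T} (hy : y ∈ P₁) (hxy : MulAut.conj x * y * (MulAut.conj x)⁻¹ ∈ P) :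
    MulAut.conj x * y * (MulAut.conj x)⁻¹ ∈ P₁ := by
  rw [conj_mul_mul_inv] at hxy ⊢
  have h1 : MulAut.conj (x * (y x)⁻¹) ∈ P := by
    have := mul_mem hxy (inv_mem (hle hy))
    rwa [mul_assoc, mul_inv_cancel, mul_one] at this
  exact mul_mem (hinn _ h1) hy

/-- **Index two.** It is enough to treat a subgroup `P₁` of `P` of index at most 2 containing `P ∩ Inn T`. -/
theorem g3_of_le [Finite T] [IsSimpleGroup T] (hT : ¬ IsMulCommutative T) {P : Subgroup (MulAut T)}
    (hP : IsPGroup 2 P) (P₁ : Subgroup (MulAut T)) (hle : P₁ ≤ P)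
    (hinn : ∀ t : T, MulAut.conj t ∈ P → MulAut.conj t ∈ P₁) (hi : P₁.relIndex P ≤ 2) (x : T)
    (hx : ∀ y ∈ P₁, MulAut.conj x * y * (MulAut.conj x)⁻¹ ∈ P₁ → y = 1) : G3 P := by
  apply g3_of_two hT hP x
  refine (card_DD_le_rel P₁ fun y hy hy1 => ?_).trans hi
  exact hx y hy1 (conj_mem_of_inn hinn hle hy1 hy.2)

/-- The form with a subgroup `A ≥ Inn T` of index at most 2 in `Aut T` (or such that `P ∩ A` has index at most 2 in `P`). -/
theorem g3_of_inf [Finite T] [IsSimpleGroup T] (hT : ¬ IsMulCommutative T) {P : Subgroup (MulAut T)}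
    (hP : IsPGroup 2 P) (A : Subgroup (MulAut T)) (hinn : ∀ t : T, MulAut.conj t ∈ A) (hi : A.relIndex P ≤ 2) (x : T)
    (hx : ∀ y ∈ P ⊓ A, MulAut.conj x * y * (MulAut.conj x)⁻¹ ∈ P ⊓ A → y = 1) : G3 P :=
  g3_of_le hT hP (P ⊓ A) inf_le_left (fun t ht => ⟨ht, hinn t⟩)
    (by rw [inf_comm, Subgroup.inf_relIndex_right]; exact hi) x hx

/-- `MeetIn` bounds `P ∩ P ^ x` by `|Out T|`. -/
theorem exists_of_meetIn [Finite T] [IsSimpleGroup T] (hT : ¬ IsMulCommutative T) {p : ℕ}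
    (h : ∀ R : Subgroup T, IsPGroup p R → ∃ x : T, ∀ y ∈ R, x * y * x⁻¹ ∈ R → y = 1)
    {P : Subgroup (MulAut T)} (hP : IsPGroup p P) :
    ∃ x : T, ∀ y ∈ DD P x, y ∈ (MulAut.conj : T →* MulAut T).range → y = 1 := by
  obtain ⟨x, hx⟩ := h (inn P) (inn_pgroup hT hP)
  refine ⟨x, ?_⟩
  rintro _ hy ⟨t, rfl⟩
  have h1 : t ∈ inn P := hy.1
  have h2 : x * t * x⁻¹ ∈ inn P := by
    have := hy.2
    rw [mem_inn, map_mul, map_mul, map_inv]
    exact this
  rw [hx t h1 h2, map_one]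

/-- **`MeetIn 2 T` and `|Out T| ≤ 2`.** -/
theorem row3_of_meetIn [Finite T] [IsSimpleGroup T] (hT : ¬ IsMulCommutative T)
    (h : ∀ R : Subgroup T, IsPGroup 2 R → ∃ x : T, ∀ y ∈ R, x * y * x⁻¹ ∈ R → y = 1)
    (ho : Nat.card (Cfsg.Out T) ≤ 2) : Row3 2 T := by
  intro P hP
  obtain ⟨x, hx⟩ := exists_of_meetIn hT h hP
  exact g3_of_two hT hP x ((card_DD_le _ hx).trans ho)

/-- **`MeetIn 2 T` and numbers**: all 2-subgroups of `Out T` have at most one involution. -/
theorem row3_of_cyclic [Finite T] [IsSimpleGroup T] (hT : ¬ IsMulCommutative T)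
    (h : ∀ R : Subgroup T, IsPGroup 2 R → ∃ x : T, ∀ y ∈ R, x * y * x⁻¹ ∈ R → y = 1)
    (hone : ∀ P : Subgroup (MulAut T), IsPGroup 2 P → (∀ y ∈ P, y ∈ (MulAut.conj : T →* MulAut T).range → y = 1) →
      (∀ y ∈ P, ∀ y' ∈ P, y * y = 1 → y' * y' = 1 → y ≠ 1 → y' ≠ 1 → y = y') ∧
        (5 ≤ Nat.card P → ∀ Q : Subgroup T, IsPGroup 2 Q → 3 * Nat.card P < Q.index)) : Row3 2 T := by
  intro P hP
  obtain ⟨x, hx⟩ := exists_of_meetIn hT h hP
  have hDp : IsPGroup 2 (DD P x) := hP.to_le inf_le_left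
  obtain ⟨h1, h2⟩ := hone (DD P x) hDp hx
  by_cases h4 : Nat.card (DD P x) ≤ 4
  · exact g3_of_four hT hP x h1 h4
  · exact g3_of_one hT hP x h1 (h2 (by omega) _ (inn_pgroup hT hP))

end Cfsg.Agent.H233.B3
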