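import Cfsg.Agent.H233.B3.RedA
import Cfsg.Agent.Lib.MinNormalNonabelian
import Cfsg.Agent.Lib.Cores
import Cfsg.Agent.Transfer.FrobeniusFusion

/-!
# S5761: reduction to the rows `Row3 p T`, `T` simple (helper233)
-/

set_option autoImplicit false

namespace Cfsg.Agent.H233.B3

open Subgroup Cfsg.Agent.Lib.MinNormal Cfsg.Agent.Lib.MinNormalNonabelian
open scoped Pointwise

universe u

/-- elementwise form of the statement -/
def Tri (p : ℕ) (G : Type u) [Group G] : Prop :=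
  ∀ H : Sylow p G, ∃ x y : G, ∀ g ∈ (H : Subgroup G), x * g * x⁻¹ ∈ (H : Subgroup G) →
    y * g * y⁻¹ ∈ (H : Subgroup G) → g ∈ Cfsg.pCore p G

/-- the nonabelian local case -/
theorem local_nonab {G : Type u} [Group G] [Finite G] {p : ℕ} [Fact p.Prime]
    (hrow : ∀ (T : Type u) [Group T] [Finite T], IsSimpleGroup T → ¬ IsMulCommutative T → p ∣ Nat.card T → Row3 p T)
    (N Q : Subgroup G) [hNn : N.Normal] (hmin : ∀ M : Subgroup G, M.Normal → M ≤ N → M = ⊥ ∨ M = N)
    (hna : ¬ ∀ x ∈ N, ∀ y ∈ N, Commute x y) (hN : p ∣ Nat.card N) (hQ : IsPGroup p Q)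
    (hf : ∀ g ∈ Q, (∀ s ∈ N, g * s = s * g) → g = 1) :
    ∃ n₁ ∈ N, ∃ n₂ ∈ N, ∀ g ∈ Q, n₁ * g * n₁⁻¹ ∈ Q → n₂ * g * n₂⁻¹ ∈ Q → g = 1 := by
  have hp : p.Prime := Fact.out
  obtain ⟨s1, s2, s3, s4, s5, s6⟩ := nonabelian_structure N hmin hna
  let T : minSet N → Subgroup G := fun i => (i : Subgroup G)
  have hcomm : ∀ i j, i ≠ j → ∀ x ∈ T i, ∀ y ∈ T j, x * y = y * x := by
    intro i j hij x hx y hy
    exact (commute_of_mem s2 (fun S hS => hS.2.2.1) (fun S hS => hS.1) i.2 j.2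
      (fun h => hij (Subtype.ext h)) hx hy).eq
  have hsup : (⨆ i, T i) = N := (sSup_eq_iSup' (minSet N)).symm.trans s3
  have hcard : ∀ i, p ∣ Nat.card (T i) := by
    classical
    have _ : Fintype (minSet N) := Fintype.ofFinite _
    have pw : Pairwise fun i j => ∀ x y : G, x ∈ T i → y ∈ T j → Commute x y :=
      fun i j hij x y hx hy => hcomm i j hij x hx y hy
    have h1 : (Subgroup.noncommPiCoprod pw).range = N := by rw [Subgroup.noncommPiCoprod_range, hsup]
    have h2 : Nat.card N ∣ ∏ i, Nat.card (T i) := by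
      have h3 := Subgroup.card_range_dvd (Subgroup.noncommPiCoprod pw)
      rw [h1, Nat.card_pi] at h3
      exact h3
    obtain ⟨j, -, hj⟩ := (Prime.dvd_finsetProd_iff hp.prime _).1 (hN.trans h2)
    intro i
    obtain ⟨g, hg⟩ := s6 _ j.2 _ i.2
    change p ∣ Nat.card (i : Subgroup G)
    rw [hg, Subgroup.card_map_of_injective (MulAut.conj g).injective]
    exact hj
  obtain ⟨n1, hn1, n2, hn2, h⟩ := glue (p := p) T Subtype.val_injective hcomm Q hQ
    (fun g _ i => ⟨⟨_, map_conj_mem_minSet i.2 g⟩, rfl⟩)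
    (fun i => hrow (T i) (s4 _ i.2) (by
      intro hc
      have : IsSimpleGroup (T i) := s4 _ i.2
      obtain ⟨z, hz⟩ := exists_ne (1 : T i)
      apply hz
      apply Subtype.ext
      exact s5 _ i.2 z z.2 (fun t ht => congrArg Subtype.val (hc.is_comm.comm z ⟨t, ht⟩))) (hcard i))
    (fun g hg hgT => hf g hg fun s hs => by
      have h1 : N ≤ centralizer ({g} : Set G) := by
        rw [← hsup]
        refine iSup_le fun i t ht => ?_
        rw [mem_centralizer_singleton_iff]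
        exact (mul_inv_eq_iff_eq_mul.1 (hgT i t ht)).symm
      exact (mem_centralizer_singleton_iff.1 (h1 hs)).symm)
  exact ⟨n1, hsup ▸ hn1, n2, hsup ▸ hn2, h⟩

/-- lifting over a normal subgroup -/
theorem lift_step {G : Type u} [Group G] [Finite G] {p : ℕ} [Fact p.Prime] (N : Subgroup G) [hNn : N.Normal]
    (H : Sylow p G) (hIH : Tri p (G ⧸ N))
    (hloc : ∃ n₁ ∈ N, ∃ n₂ ∈ N, ∀ g ∈ (H : Subgroup G) ⊓ (Cfsg.pCore p (G ⧸ N)).comap (QuotientGroup.mk' N),
      n₁ * g * n₁⁻¹ ∈ (H : Subgroup G) ⊓ (Cfsg.pCore p (G ⧸ N)).comap (QuotientGroup.mk' N) →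
      n₂ * g * n₂⁻¹ ∈ (H : Subgroup G) ⊓ (Cfsg.pCore p (G ⧸ N)).comap (QuotientGroup.mk' N) → g = 1) :
    ∃ x y : G, ∀ g ∈ (H : Subgroup G), x * g * x⁻¹ ∈ (H : Subgroup G) → y * g * y⁻¹ ∈ (H : Subgroup G) → g = 1 := by
  have hp : p.Prime := Fact.out
  have hcn : (Cfsg.pCore p (G ⧸ N)).Normal := Cfsg.Agent.Lib.Cores.pCore_normal p
  set M : Subgroup G := (Cfsg.pCore p (G ⧸ N)).comap (QuotientGroup.mk' N) with hM
  have hMn : M.Normal := hcn.comap _
  have hNM : N ≤ M := by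
    intro n hn
    rw [hM, mem_comap, (QuotientGroup.eq_one_iff n).2 hn |> fun h => show QuotientGroup.mk' N n = 1 from h]
    exact one_mem _
  set Q : Subgroup G := (H : Subgroup G) ⊓ M with hQ
  have hdec : ∀ m ∈ M, ∃ q ∈ Q, ∃ n ∈ N, m = q * n := by
    intro m hm
    have h1 : QuotientGroup.mk' N m ∈ ((H.mapSurjective (QuotientGroup.mk'_surjective N) : Sylow p (G ⧸ N)) : Subgroup (G ⧸ N)) :=
      Cfsg.Agent.Lib.Cores.pCore_le_sylow _ hm
    rw [Sylow.coe_mapSurjective] at h1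
    obtain ⟨h, hh, e⟩ := h1
    have h2 : h⁻¹ * m ∈ N := by
      rw [← QuotientGroup.eq]
      exact e
    refine ⟨h, ⟨hh, ?_⟩, h⁻¹ * m, h2, by group⟩
    have : h = m * (h⁻¹ * m)⁻¹ := by group
    rw [this]
    exact M.mul_mem hm (M.inv_mem (hNM h2))
  have hadj : ∀ x : G, ∃ m ∈ N, ∀ g, (m * x) * g * (m * x)⁻¹ ∈ Q → g ∈ Q := by
    intro x
    obtain ⟨S, hS⟩ := Cfsg.Agent.Transfer.FrobeniusFusion.exists_sylow_subgroupOf H M
    obtain ⟨S', hS'⟩ := Cfsg.Agent.Transfer.FrobeniusFusion.exists_sylow_subgroupOf (x • H) M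
    obtain ⟨m0, hm0⟩ := MulAction.exists_smul_eq M S' S
    obtain ⟨q, hq, n, hn, hqn⟩ := hdec m0 m0.2
    have h1 : ∀ g ∈ Q, (n * x) * g * (n * x)⁻¹ ∈ Q := by
      intro g hg
      have hxg : x * g * x⁻¹ ∈ M := hMn.conj_mem g hg.2 x
      have h2 : (⟨x * g * x⁻¹, hxg⟩ : M) ∈ (S' : Subgroup M) := by
        rw [hS', mem_subgroupOf, Sylow.coe_subgroup_smul]
        exact Subgroup.smul_mem_pointwise_smul g (MulAut.conj x) _ hg.1
      have h3 : m0 * ⟨x * g * x⁻¹, hxg⟩ * m0⁻¹ ∈ (S : Subgroup M) := by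
        rw [← hm0, Sylow.coe_subgroup_smul]
        exact Subgroup.smul_mem_pointwise_smul _ (MulAut.conj m0) _ h2
      rw [hS, mem_subgroupOf] at h3
      have h4 : (m0 : G) * (x * g * x⁻¹) * (m0 : G)⁻¹ ∈ Q :=
        ⟨h3, M.mul_mem (M.mul_mem m0.2 hxg) (M.inv_mem m0.2)⟩
      rw [hqn] at h4
      have h5 : (n * x) * g * (n * x)⁻¹ = q⁻¹ * (q * n * (x * g * x⁻¹) * (q * n)⁻¹) * q := by group
      rw [h5]
      exact mul_mem (mul_mem (inv_mem hq) h4) hq
    refine ⟨n, hn, fun g hg => ?_⟩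
    have h2 : Q.map (MulAut.conj (n * x)).toMonoidHom = Q := by
      apply Subgroup.eq_of_le_of_card_ge
      · rintro _ ⟨g, hg, rfl⟩
        exact h1 g hg
      · rw [Subgroup.card_map_of_injective (MulAut.conj (n * x)).injective]
    rw [← h2] at hg
    obtain ⟨g', hg', e⟩ := hg
    have e' : (n * x) * g' * (n * x)⁻¹ = (n * x) * g * (n * x)⁻¹ := e
    have : g' = g := mul_left_cancel (mul_right_cancel e')
    exact this ▸ hg'
  obtain ⟨x', y', hxy⟩ := hIH (H.mapSurjective (QuotientGroup.mk'_surjective N))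
  obtain ⟨x, rfl⟩ := QuotientGroup.mk'_surjective N x'
  obtain ⟨y, rfl⟩ := QuotientGroup.mk'_surjective N y'
  obtain ⟨k1, hk1, k2, hk2, hk⟩ := hloc
  obtain ⟨m1, hm1, h1⟩ := hadj x
  obtain ⟨m2, hm2, h2⟩ := hadj y
  have hmk : ∀ (m k z : G), m ∈ N → k ∈ N → QuotientGroup.mk' N (m * z * k) = QuotientGroup.mk' N z := by
    intro m k z hm hk
    rw [map_mul, map_mul, show QuotientGroup.mk' N m = 1 from (QuotientGroup.eq_one_iff m).2 hm,
      show QuotientGroup.mk' N k = 1 from (QuotientGroup.eq_one_iff k).2 hk, one_mul, mul_one]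
  refine ⟨m1 * x * k1, m2 * y * k2, fun g hg hgx hgy => ?_⟩
  have himg : ∀ h ∈ (H : Subgroup G), QuotientGroup.mk' N h ∈
      ((H.mapSurjective (QuotientGroup.mk'_surjective N) : Sylow p (G ⧸ N)) : Subgroup (G ⧸ N)) := by
    intro h hh
    rw [Sylow.coe_mapSurjective]
    exact ⟨h, hh, rfl⟩
  have hgM : g ∈ M := by
    have h3 := hxy _ (himg g hg) (by
      have := himg _ hgx
      rw [map_mul, map_mul, map_inv, hmk _ _ _ hm1 hk1] at this
      exact this) (by
      have := himg _ hgy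
      rw [map_mul, map_mul, map_inv, hmk _ _ _ hm2 hk2] at this
      exact this)
    exact h3
  apply hk g ⟨hg, hgM⟩
  · apply h1
    have e : (m1 * x) * (k1 * g * k1⁻¹) * (m1 * x)⁻¹ = m1 * x * k1 * g * (m1 * x * k1)⁻¹ := by group
    rw [e]
    exact ⟨hgx, hMn.conj_mem g hgM _⟩
  · apply h2
    have e : (m2 * y) * (k2 * g * k2⁻¹) * (m2 * y)⁻¹ = m2 * y * k2 * g * (m2 * y * k2)⁻¹ := by group
    rw [e]
    exact ⟨hgy, hMn.conj_mem g hgM _⟩

/-- `C_Q(N) = 1` when `N` is a `p'`-group -/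
theorem faithful_coprime {G : Type u} [Group G] [Finite G] {p : ℕ} [Fact p.Prime] (N Q M : Subgroup G)
    [hNn : N.Normal] [hMn : M.Normal] (hdec : ∀ m ∈ M, ∃ q ∈ Q, ∃ n ∈ N, m = q * n) (hQM : Q ≤ M)
    (hN : ¬ p ∣ Nat.card N) (hQ : IsPGroup p Q) (hO : Cfsg.pCore p G = ⊥) :
    ∀ g ∈ Q, (∀ s ∈ N, g * s = s * g) → g = 1 := by
  have hp : p.Prime := Fact.out
  have hcop : ∀ (n : G), n ∈ N → ∀ k : ℕ, n ^ p ^ k = 1 → n = 1 := by
    intro n hn k hk
    have h2 : orderOf n ∣ Nat.card N := by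
      have := orderOf_dvd_natCard (⟨n, hn⟩ : N)
      rwa [← Subgroup.orderOf_coe] at this
    obtain ⟨j, -, hj⟩ := (Nat.dvd_prime_pow hp).1 (orderOf_dvd_of_pow_eq_one hk)
    rcases Nat.eq_zero_or_pos j with h0 | h0
    · rw [h0, pow_zero, orderOf_eq_one_iff] at hj
      exact hj
    · exact absurd ((dvd_pow_self p h0.ne').trans (hj ▸ h2)) hN
  let K : Subgroup G := Q ⊓ centralizer (N : Set G)
  have hKn : K.Normal := by
    constructor
    intro x hx g
    set y := g * x * g⁻¹ with hy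
    have hyM : y ∈ M := hMn.conj_mem x (hQM hx.1) g
    have hyN : ∀ s ∈ N, y * s = s * y := by
      intro s hs
      have h1 : g⁻¹ * s * g ∈ N := by simpa using hNn.conj_mem s hs g⁻¹
      have h2 := mem_centralizer_iff.1 hx.2 _ h1
      calc y * s = g * (x * (g⁻¹ * s * g)) * g⁻¹ := by rw [hy]; group
        _ = g * ((g⁻¹ * s * g) * x) * g⁻¹ := by rw [h2]
        _ = s * y := by rw [hy]; group
    obtain ⟨q, hq, n, hn, hqn⟩ := hdec y hyM
    -- `q` acts on `N` as `n⁻¹`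
    have h1 : ∀ s ∈ N, q * s * q⁻¹ = n⁻¹ * s * n := by
      intro s hs
      have h2 := hyN (n⁻¹ * s * n) (by simpa using hNn.conj_mem s hs n⁻¹)
      rw [hqn] at h2
      have h3 : q * s * n = n⁻¹ * s * n * (q * n) := by
        rw [← h2]; group
      calc q * s * q⁻¹ = (q * s * n) * (q * n)⁻¹ := by group
        _ = n⁻¹ * s * n := by rw [h3]; group
    have h2 : ∀ k : ℕ, ∀ s ∈ N, q ^ k * s * (q ^ k)⁻¹ = (n ^ k)⁻¹ * s * n ^ k := by
      intro k
      induction k with
      | zero => intro s _; simp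
      | succ k ih =>
        intro s hs
        have h3 : (n ^ k)⁻¹ * s * n ^ k ∈ N := by
          have := hNn.conj_mem s hs (n ^ k)⁻¹
          simpa using this
        calc q ^ (k + 1) * s * (q ^ (k + 1))⁻¹ = q * (q ^ k * s * (q ^ k)⁻¹) * q⁻¹ := by rw [pow_succ']; group
          _ = q * ((n ^ k)⁻¹ * s * n ^ k) * q⁻¹ := by rw [ih s hs]
          _ = n⁻¹ * ((n ^ k)⁻¹ * s * n ^ k) * n := h1 _ h3
          _ = (n ^ (k + 1))⁻¹ * s * n ^ (k + 1) := by rw [pow_succ]; group
    obtain ⟨a, ha⟩ := hQ ⟨q, hq⟩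
    have ha' : q ^ p ^ a = 1 := by simpa using congrArg Subtype.val ha
    obtain ⟨b, hb⟩ := hQ ⟨x, hx.1⟩
    have hb' : x ^ p ^ b = 1 := by simpa using congrArg Subtype.val hb
    have hyb : y ^ p ^ b = 1 := by
      rw [hy, conj_pow, hb']
      simp
    have hon : Nat.Coprime (p ^ a) (orderOf n) := by
      apply Nat.Coprime.pow_left
      rw [hp.coprime_iff_not_dvd]
      intro hd
      have h3 : orderOf n ∣ Nat.card N := by
        have := orderOf_dvd_natCard (⟨n, hn⟩ : N)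
        rwa [← Subgroup.orderOf_coe] at this
      exact hN (hd.trans h3)
    obtain ⟨m, hm⟩ := exists_pow_eq_self_of_coprime hon
    have h3 : ∀ s ∈ N, Commute n s := by
      intro s hs
      have h4 := h2 (p ^ a) s hs
      rw [ha'] at h4
      have h5 : Commute (n ^ p ^ a) s := by
        change n ^ p ^ a * s = s * n ^ p ^ a
        have h6 : s = (n ^ p ^ a)⁻¹ * s * n ^ p ^ a := by simpa using h4
        conv_lhs => rw [h6]
        group
      rw [← hm]
      exact h5.pow_left m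
    have h4 : ∀ s ∈ N, q * s = s * q := by
      intro s hs
      have h5 := h1 s hs
      have h6 : n⁻¹ * s * n = s := by
        rw [mul_assoc, ← (h3 s hs).eq, inv_mul_cancel_left]
      rw [h6] at h5
      exact mul_inv_eq_iff_eq_mul.1 h5
    have h5 : n = 1 := by
      apply hcop n hn (a + b)
      have h6 : y ^ p ^ (a + b) = 1 := by
        rw [pow_add, mul_comm, pow_mul, hyb, one_pow]
      have h7 : q ^ p ^ (a + b) = 1 := by
        rw [pow_add, pow_mul, ha', one_pow]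
      rw [hqn, (show Commute q n from h4 n hn).mul_pow, h7, one_mul] at h6
      exact h6
    rw [h5, mul_one] at hqn
    rw [hqn]
    exact ⟨hq, mem_centralizer_iff.2 fun s hs => (h4 s hs).symm⟩
  have hK : K ≤ Cfsg.pCore p G := Cfsg.Agent.Lib.Cores.le_pCore hKn (hQ.to_le inf_le_left)
  intro g hg hs
  have h1 : g ∈ K := ⟨hg, mem_centralizer_iff.2 fun s hs' => (hs s hs').symm⟩
  have h2 := hK h1
  rw [hO, mem_bot] at h2
  exact h2

/-- `C_Q(N) = 1` when `N` is a nonabelian minimal normal subgroup -/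
theorem faithful_nonab {G : Type u} [Group G] [Finite G] {p : ℕ} [Fact p.Prime] (N : Subgroup G)
    [hNn : N.Normal] (hmin : ∀ M : Subgroup G, M.Normal → M ≤ N → M = ⊥ ∨ M = N)
    (hna : ¬ ∀ x ∈ N, ∀ y ∈ N, Commute x y) (hO : Cfsg.pCore p G = ⊥) :
    ∀ g ∈ (Cfsg.pCore p (G ⧸ N)).comap (QuotientGroup.mk' N), (∀ s ∈ N, g * s = s * g) → g = 1 := by
  have hcn : (Cfsg.pCore p (G ⧸ N)).Normal := Cfsg.Agent.Lib.Cores.pCore_normal p
  have hMn : ((Cfsg.pCore p (G ⧸ N)).comap (QuotientGroup.mk' N)).Normal := hcn.comap _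
  have hZ : N ⊓ centralizer (N : Set G) = ⊥ := by
    rcases hmin (N ⊓ centralizer (N : Set G)) inferInstance inf_le_left with h | h
    · exact h
    · exfalso
      apply hna
      intro x hx y hy
      rw [← h] at hx
      exact (mem_centralizer_iff.1 hx.2 y hy).symm
  let K : Subgroup G := (Cfsg.pCore p (G ⧸ N)).comap (QuotientGroup.mk' N) ⊓ centralizer (N : Set G)
  have hKp : IsPGroup p K := by
    intro z
    obtain ⟨k, hk⟩ := Cfsg.Agent.Lib.Cores.pCore_isPGroup (G := G ⧸ N) p ⟨QuotientGroup.mk' N z, z.2.1⟩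
    refine ⟨k, ?_⟩
    have h1 : QuotientGroup.mk' N ((z : G) ^ p ^ k) = 1 := by
      rw [map_pow]
      simpa using congrArg Subtype.val hk
    have h2 : (z : G) ^ p ^ k ∈ N ⊓ centralizer (N : Set G) :=
      ⟨(QuotientGroup.eq_one_iff _).1 h1, pow_mem z.2.2 _⟩
    rw [hZ, mem_bot] at h2
    exact Subtype.ext (by simpa using h2)
  have hKn : K.Normal := inferInstance
  intro g hg hs
  have h1 : g ∈ K := ⟨hg, mem_centralizer_iff.2 fun s hs' => (hs s hs').symm⟩
  have h2 := Cfsg.Agent.Lib.Cores.le_pCore hKn hKp h1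
  rw [hO, mem_bot] at h2
  exact h2

theorem tri_aux {p : ℕ} [Fact p.Prime]
    (hrow : ∀ (T : Type u) [Group T] [Finite T], IsSimpleGroup T → ¬ IsMulCommutative T → p ∣ Nat.card T → Row3 p T)
    (n : ℕ) : ∀ (G : Type u) [Group G] [Finite G], Nat.card G ≤ n → Tri p G := by
  induction n with
  | zero =>
    intro G _ _ h
    have : 0 < Nat.card G := Nat.card_pos
    omega
  | succ n ih =>
    intro G _ _ hn H
    have hp : p.Prime := Fact.out
    have hquot : ∀ N : Subgroup G, N.Normal → N ≠ ⊥ → Nat.card (G ⧸ N) ≤ n := by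
      intro N _ hN
      have h1 := Subgroup.card_eq_card_quotient_mul_card_subgroup N
      have h2 : 1 < Nat.card N := (Subgroup.one_lt_card_iff_ne_bot N).2 hN
      have h3 : 0 < Nat.card (G ⧸ N) := Nat.card_pos
      have h4 : Nat.card (G ⧸ N) < Nat.card G := by
        rw [h1]
        exact lt_mul_of_one_lt_right h3 h2
      omega
    by_cases hO : Cfsg.pCore p G = ⊥
    · by_cases hG : Subsingleton G
      · refine ⟨1, 1, fun g _ _ _ => ?_⟩
        rw [Subsingleton.elim g 1]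
        exact one_mem _
      -- a minimal normal subgroup
      have hfin : {N : Subgroup G | N.Normal ∧ N ≠ ⊥}.Finite := Set.toFinite _
      have hne : {N : Subgroup G | N.Normal ∧ N ≠ ⊥}.Nonempty := by
        refine ⟨⊤, inferInstance, ?_⟩
        intro h
        apply hG
        constructor
        intro a b
        have ha : a ∈ (⊤ : Subgroup G) := mem_top a
        have hb : b ∈ (⊤ : Subgroup G) := mem_top b
        rw [h, mem_bot] at ha hb
        rw [ha, hb]
      obtain ⟨N, ⟨hNn, hN0⟩, hNmin⟩ := hfin.exists_minimal hne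
      have hmin : ∀ M : Subgroup G, M.Normal → M ≤ N → M = ⊥ ∨ M = N := by
        intro M hM hMN
        by_cases h0 : M = ⊥
        · exact Or.inl h0
        · exact Or.inr (le_antisymm hMN (hNmin ⟨hM, h0⟩ hMN))
      have hIH := ih (G ⧸ N) (hquot N hNn hN0)
      set M : Subgroup G := (Cfsg.pCore p (G ⧸ N)).comap (QuotientGroup.mk' N) with hM
      have hcn : (Cfsg.pCore p (G ⧸ N)).Normal := Cfsg.Agent.Lib.Cores.pCore_normal p
      have hMn : M.Normal := hcn.comap _
      have hNM : N ≤ M := by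
        intro n hn
        rw [hM, mem_comap, show QuotientGroup.mk' N n = 1 from (QuotientGroup.eq_one_iff n).2 hn]
        exact one_mem _
      have hQp : IsPGroup p ((H : Subgroup G) ⊓ M : Subgroup G) := H.isPGroup'.to_le inf_le_left
      have hdec : ∀ m ∈ M, ∃ q ∈ (H : Subgroup G) ⊓ M, ∃ n ∈ N, m = q * n := by
        intro m hm
        have h1 : QuotientGroup.mk' N m ∈
            ((H.mapSurjective (QuotientGroup.mk'_surjective N) : Sylow p (G ⧸ N)) : Subgroup (G ⧸ N)) :=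
          Cfsg.Agent.Lib.Cores.pCore_le_sylow _ hm
        rw [Sylow.coe_mapSurjective] at h1
        obtain ⟨h, hh, e⟩ := h1
        have h2 : h⁻¹ * m ∈ N := by
          rw [← QuotientGroup.eq]
          exact e
        refine ⟨h, ⟨hh, ?_⟩, h⁻¹ * m, h2, by group⟩
        have : h = m * (h⁻¹ * m)⁻¹ := by group
        rw [this]
        exact M.mul_mem hm (M.inv_mem (hNM h2))
      have hloc : ∃ n₁ ∈ N, ∃ n₂ ∈ N, ∀ g ∈ (H : Subgroup G) ⊓ M,
          n₁ * g * n₁⁻¹ ∈ (H : Subgroup G) ⊓ M → n₂ * g * n₂⁻¹ ∈ (H : Subgroup G) ⊓ M → g = 1 := by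
        by_cases hpN : p ∣ Nat.card N
        · have hna : ¬ ∀ x ∈ N, ∀ y ∈ N, Commute x y := by
            intro hab
            obtain ⟨r, hr, hrN, -⟩ := abelian_structure N hN0 hmin hab
            have : Fact r.Prime := ⟨hr⟩
            obtain ⟨k, hk⟩ := hrN.exists_card_eq
            have h1 : p = r := by
              rw [hk] at hpN
              exact (Nat.prime_dvd_prime_iff_eq hp hr).1 (hp.dvd_of_dvd_pow hpN)
            subst h1
            have h2 := Cfsg.Agent.Lib.Cores.le_pCore hNn hrN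
            rw [hO] at h2
            exact hN0 (le_bot_iff.1 h2)
          exact local_nonab hrow N _ hmin hna hpN hQp
            (fun g hg hs => faithful_nonab (p := p) N hmin hna hO g hg.2 hs)
        · exact local_coprime N _ hpN hQp (faithful_coprime N _ M hdec inf_le_right hpN hQp hO)
      obtain ⟨x, y, h⟩ := lift_step N H hIH hloc
      refine ⟨x, y, fun g hg hx hy => ?_⟩
      rw [h g hg hx hy]
      exact one_mem _
    · -- pass to `G / O_p(G)`
      have hOn : (Cfsg.pCore p G).Normal := Cfsg.Agent.Lib.Cores.pCore_normal p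
      obtain ⟨x', y', h⟩ := ih (G ⧸ Cfsg.pCore p G) (hquot _ hOn hO)
        (H.mapSurjective (QuotientGroup.mk'_surjective _))
      obtain ⟨x, rfl⟩ := QuotientGroup.mk'_surjective _ x'
      obtain ⟨y, rfl⟩ := QuotientGroup.mk'_surjective _ y'
      refine ⟨x, y, fun g hg hx hy => ?_⟩
      have himg : ∀ h ∈ (H : Subgroup G), QuotientGroup.mk' (Cfsg.pCore p G) h ∈
          ((H.mapSurjective (QuotientGroup.mk'_surjective _) : Sylow p (G ⧸ Cfsg.pCore p G)) :
            Subgroup (G ⧸ Cfsg.pCore p G)) := by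
        intro h hh
        rw [Sylow.coe_mapSurjective]
        exact ⟨h, hh, rfl⟩
      have h1 := h _ (himg g hg) (by
        have := himg _ hx
        rwa [map_mul, map_mul, map_inv] at this) (by
        have := himg _ hy
        rwa [map_mul, map_mul, map_inv] at this)
      rw [Cfsg.Agent.Lib.Cores.pCore_quotient_pCore, mem_bot] at h1
      exact (QuotientGroup.eq_one_iff g).1 h1

/-- **S5761 from the rows.** -/
theorem base3_of_rows {p : ℕ} [Fact p.Prime]
    (hrow : ∀ (T : Type u) [Group T] [Finite T], IsSimpleGroup T → ¬ IsMulCommutative T → p ∣ Nat.card T → Row3 p T)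
    {G : Type u} [Group G] [Finite G] (H : Sylow p G) :
    ∃ x y : G, (H : Subgroup G) ⊓ (H : Subgroup G).map (MulAut.conj x).toMonoidHom ⊓
      (H : Subgroup G).map (MulAut.conj y).toMonoidHom = Cfsg.pCore p G := by
  obtain ⟨x, y, h⟩ := tri_aux hrow _ G le_rfl H
  have hOn : (Cfsg.pCore p G).Normal := Cfsg.Agent.Lib.Cores.pCore_normal p
  have hmap : ∀ (z g : G), g ∈ (H : Subgroup G).map (MulAut.conj z⁻¹).toMonoidHom → z * g * z⁻¹ ∈ (H : Subgroup G) := by
    rintro z _ ⟨h, hh, rfl⟩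
    have : z * (z⁻¹ * h * z⁻¹⁻¹) * z⁻¹ = h := by group
    change z * (z⁻¹ * h * z⁻¹⁻¹) * z⁻¹ ∈ _
    rwa [this]
  refine ⟨x⁻¹, y⁻¹, le_antisymm ?_ ?_⟩
  · rintro g ⟨⟨h1, h2⟩, h3⟩
    exact h g h1 (hmap x g h2) (hmap y g h3)
  · intro g hg
    have hle := Cfsg.Agent.Lib.Cores.pCore_le_sylow (G := G) H
    refine ⟨⟨hle hg, ?_⟩, ?_⟩
    · refine ⟨x * g * x⁻¹, hle (hOn.conj_mem g hg x), ?_⟩
      change x⁻¹ * (x * g * x⁻¹) * x⁻¹⁻¹ = g
      group
    · refine ⟨y * g * y⁻¹, hle (hOn.conj_mem g hg y), ?_⟩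
      change y⁻¹ * (y * g * y⁻¹) * y⁻¹⁻¹ = g
      group

end Cfsg.Agent.H233.B3
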