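import Cfsg.Agent.H233.B3.Asm2
import Cfsg.Agent.H233.B3.Red

/-!
# S5761, assembly (helper233)

`main` : S5761 from the classification (`hC`), the inner rows for p = 2 (`hM`, S5760), the rows for p = 3 (`h3`, S2484;
`h38` : POmega8+(3)), for p ≥ 5 (`h5`, S5762) and the rows for p = 2 (`h2`).
-/

set_option autoImplicit false

namespace Cfsg.Agent.H233.B3

open Cfsg Cfsg.Lie Cfsg.Agent.H903.SylMeet Cfsg.Agent.H68.MeetB
open scoped Pointwise

universe u

/-- S5760 in the form `MeetIn`. -/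
theorem meetIn_of_sylow {T : Type u} [Group T] [Finite T] {p : ℕ} [Fact p.Prime]
    (h : ∀ H : Sylow p T, ∃ x : T, (H : Subgroup T) ⊓ (H : Subgroup T).map (MulAut.conj x).toMonoidHom = ⊥) :
    MeetIn p T := by
  intro R hR
  obtain ⟨S, hS⟩ := hR.exists_le_sylow
  obtain ⟨x, hx⟩ := h S
  refine ⟨x⁻¹, fun y hy hxy => ?_⟩
  have h1 : y ∈ (S : Subgroup T) ⊓ (S : Subgroup T).map (MulAut.conj x).toMonoidHom := by
    refine Subgroup.mem_inf.2 ⟨hS hy, ⟨x⁻¹ * y * x⁻¹⁻¹, hS hxy, ?_⟩⟩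
    show x * (x⁻¹ * y * x⁻¹⁻¹) * x⁻¹ = y
    group
  rw [hx, Subgroup.mem_bot] at h1
  exact h1

/-- the rows for every prime -/
theorem row3_known (h2 : ∀ {T : Type u} [Group T] [Finite T] [IsSimpleGroup T], ¬ IsMulCommutative T → MeetIn 2 T →
      IsKnownSimple' T → Row3 2 T)
    (hM : ∀ {T : Type u} [Group T] [Finite T] [IsSimpleGroup T], ¬ IsMulCommutative T → MeetIn 2 T)
    (h3 : ∀ {T : Type u} [Group T] [Finite T] [IsSimpleGroup T], ¬ IsMulCommutative T →
      (∀ (F : Type) [Field F] [Fintype F], Fintype.card F = 3 → ¬ Nonempty (T ≃* POmega F (quadFormPlus 4 F))) →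
      IsKnownSimple' T → Meet 3 T)
    (h38 : ∀ {F : Type} [Field F] [Fintype F], Fintype.card F = 3 → Row3 3 (POmega F (quadFormPlus 4 F)))
    (h5 : ∀ {p : ℕ} [Fact p.Prime] {T : Type u} [Group T] [Finite T] [IsSimpleGroup T], 5 ≤ p →
      ¬ IsMulCommutative T → IsKnownSimple' T → Meet p T)
    {p : ℕ} [Fact p.Prime] {T : Type u} [Group T] [Finite T] [IsSimpleGroup T] (hT : ¬ IsMulCommutative T)
    (h : IsKnownSimple' T) : Row3 p T := by
  have hp : p.Prime := Fact.out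
  by_cases hp2 : p = 2
  · subst hp2
    exact h2 hT (hM hT) h
  by_cases hp3 : p = 3
  · subst hp3
    by_cases hO : ∃ (F : Type) (_ : Field F) (_ : Fintype F), Fintype.card F = 3 ∧
        Nonempty (T ≃* POmega F (quadFormPlus 4 F))
    · obtain ⟨F, _, _, hF, ⟨e⟩⟩ := hO
      exact Row3.congr e.symm (h38 hF)
    · exact row3_of_meet hT (h3 hT (fun F _ _ hF he => hO ⟨F, _, _, hF, he⟩) h)
  have hp5 : 5 ≤ p := by
    have h2 := hp.two_le
    by_contra hcon
    have : p = 4 := by omega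
    subst this
    exact absurd hp (by norm_num)
  exact row3_of_meet hT (h5 hp5 hT h)

/-- **S5761** from the rows. -/
theorem main (hC : ∀ {T : Type u} [Group T] [Finite T] [IsSimpleGroup T], IsKnownSimple' T)
    (h2 : ∀ {T : Type u} [Group T] [Finite T] [IsSimpleGroup T], ¬ IsMulCommutative T → MeetIn 2 T →
      IsKnownSimple' T → Row3 2 T)
    (hM : ∀ {T : Type u} [Group T] [Finite T] [IsSimpleGroup T], ¬ IsMulCommutative T → MeetIn 2 T)
    (h3 : ∀ {T : Type u} [Group T] [Finite T] [IsSimpleGroup T], ¬ IsMulCommutative T →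
      (∀ (F : Type) [Field F] [Fintype F], Fintype.card F = 3 → ¬ Nonempty (T ≃* POmega F (quadFormPlus 4 F))) →
      IsKnownSimple' T → Meet 3 T)
    (h38 : ∀ {F : Type} [Field F] [Fintype F], Fintype.card F = 3 → Row3 3 (POmega F (quadFormPlus 4 F)))
    (h5 : ∀ {p : ℕ} [Fact p.Prime] {T : Type u} [Group T] [Finite T] [IsSimpleGroup T], 5 ≤ p →
      ¬ IsMulCommutative T → IsKnownSimple' T → Meet p T)
    {G : Type u} [Group G] [Finite G] {p : ℕ} [Fact p.Prime] (H : Sylow p G) :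
    ∃ x y : G, (H : Subgroup G) ⊓ (H : Subgroup G).map (MulAut.conj x).toMonoidHom ⊓
      (H : Subgroup G).map (MulAut.conj y).toMonoidHom =
      Cfsg.pCore p G :=
  base3_of_rows (fun T _ _ hs hT _ => by
    have _ := hs
    exact row3_known h2 hM h3 h38 h5 hT hC) H

end Cfsg.Agent.H233.B3
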