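import Cfsg.Agent.H233.B3.RowChar
import Cfsg.Agent.H185.MeetChev

/-!
# S5761, rows in characteristic 2: the Chevalley groups (helper233)
-/

set_option autoImplicit false

namespace Cfsg.Agent.H233.B3

open scoped Pointwise
open Cfsg Cfsg.Lie Cfsg.Agent.ChevalleyStructure Cfsg.Agent.ChevalleyStructure.Elts
  Cfsg.Agent.ChevalleyStructure.BNChev Cfsg.Agent.Schreier.ChevLocal
  Cfsg.Agent.S1042 Cfsg.Agent.H70.AutFix Cfsg.Agent.H70.ChevTab Cfsg.Agent.H70.ChevFix Cfsg.Agent.H70.ChevField
open Cfsg.Agent.H79.FieldAuts (fieldHom fieldHom_xS)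
open Cfsg.Agent.H903.SylMeet
open Cfsg.Agent.H185.MeetChev (st_xe st_UU st_ne st_he st_longest)

universe u

variable {D : ChevalleyDatum} (hD : InList D) {F : Type u} [Field F]

include hD in
/-- **Chevalley groups in characteristic 2, one graph automorphism allowed.** -/
theorem row3_chev [Finite F] [CharP F 2] [IsSimpleGroup ↥(D.group F)]
    (hT : ¬ IsMulCommutative ↥(D.group F)) {m : ℕ} (hm : ¬ 2 ∣ m)
    (hout : Nat.card (Cfsg.Out ↥(D.group F)) ∣ 2 * m * Nat.card (RingAut F))
    {i s : ℕ} (hi : i < D.rank) (hs : s < D.nroots) (his : D.cartan i s = 1) : Row3 2 ↥(D.group F) := by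
  have _ : Fact (Nat.Prime 2) := ⟨Nat.prime_two⟩
  have := Fintype.ofFinite F
  have hfinG : Finite ↥(D.group F) := inferInstance
  have hfinR : Finite (RingAut F) := Finite.of_injective (fun σ : RingAut F => (σ : F → F)) DFunLike.coe_injective
  have hinj := conj_injective (T := ↥(D.group F)) hT
  obtain ⟨n, a, L⟩ := exists_longest hD F
  set nE : ↥(D.group F) := ⟨n, monomial_le_group hD F L.mem⟩ with hnE
  obtain ⟨S, hS⟩ := Cfsg.Agent.S2326.result (F := F) 2 D hD
  have hUp : IsPGroup 2 ↥(UU D F) := by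
    have h1 := S.isPGroup'
    rw [hS] at h1
    exact h1
  have hUi : ¬ 2 ∣ (UU D F).index := by
    have h1 := S.not_dvd_index
    rw [hS] at h1
    exact h1
  obtain ⟨c, hc⟩ := IsCyclic.exists_generator (α := Fˣ)
  have hnV : ∀ u ∈ UU D F, ((nE * u * nE⁻¹ : ↥(D.group F)) : GL D.Idx F) ∈ D.negUnipotent F := by
    have h1 : D.posUnipotent F ≤ (D.negUnipotent F).comap (MulAut.conj n).toMonoidHom := by
      rw [posUnipotent_le_iff hD]
      intro r hr t
      obtain ⟨η, -, h⟩ := L.conj r hr.1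
      show n * xG hD r t * n⁻¹ ∈ D.negUnipotent F
      rw [h]
      exact xG_mem_negUnipotent hD (L.pos r hr) _
    intro u hu
    exact h1 hu
  have hone : ∀ u ∈ UU D F, ((nE * u * nE⁻¹ : ↥(D.group F)) : GL D.Idx F) ∈ D.borelSubgroup F → u = 1 := by
    intro u hu h
    have h1 : nE * u * nE⁻¹ = 1 := Subtype.ext (one_of_mem_borel_of_mem_neg h (hnV u hu) hD)
    have h2 : nE * u * nE⁻¹ = nE * 1 * nE⁻¹ := by rw [h1]; group
    exact mul_left_cancel (mul_right_cancel h2)
  set t : ↥(D.group F) := he hD (D.simple i) (c : F) with ht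
  have htH : ∀ σ : RingAut F, ((fieldHom hD F σ t : ↥(D.group F)) : GL D.Idx F) ∈ D.diagonalSubgroup F := by
    intro σ
    rw [ht, st_he hD σ hi]
    refine he_mem_HH hD (simple_lt hD hi) ?_
    rw [Ne, map_eq_zero]
    exact c.ne_zero
  have htH1 : (t : GL D.Idx F) ∈ D.diagonalSubgroup F := he_mem_HH hD (simple_lt hD hi) c.ne_zero
  refine row3_of_frame hT hUp hUi (fieldHom hD F) (Cfsg.Agent.H185.MeetChev.st_UU hD) hm hout nE t
    (fun σ => st_longest hD hinj L σ) ?_ ?_ ?_
  · intro u hu h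
    exact hone u hu (Subgroup.mem_sup_left h)
  · intro u hu σ h
    apply hone u hu
    have h1 : ((t * (nE * u * nE⁻¹) * (fieldHom hD F σ t)⁻¹ : ↥(D.group F)) : GL D.Idx F) ∈ D.posUnipotent F := h
    have h2 : ((nE * u * nE⁻¹ : ↥(D.group F)) : GL D.Idx F) =
        (t : GL D.Idx F)⁻¹ * ((t * (nE * u * nE⁻¹) * (fieldHom hD F σ t)⁻¹ : ↥(D.group F)) : GL D.Idx F) *
          ((fieldHom hD F σ t : ↥(D.group F)) : GL D.Idx F) := by
      simp only [Subgroup.coe_mul, Subgroup.coe_inv]
      group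
    rw [h2]
    exact mul_mem (mul_mem (Subgroup.mem_sup_right (inv_mem htH1)) (Subgroup.mem_sup_left h1))
      (Subgroup.mem_sup_right (htH σ))
  · intro σ _ h
    have h1 : (t * (fieldHom hD F σ t)⁻¹ : ↥(D.group F)) = 1 := by
      apply Subtype.ext
      have h2 : ((t * (fieldHom hD F σ t)⁻¹ : ↥(D.group F)) : GL D.Idx F) ∈
          D.posUnipotent F ⊓ D.diagonalSubgroup F := by
        refine Subgroup.mem_inf.2 ⟨h, ?_⟩
        rw [Subgroup.coe_mul, Subgroup.coe_inv]
        exact mul_mem htH1 (inv_mem (htH σ))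
      rw [(Cfsg.Agent.S1036.result (F := F) D hD).2, Subgroup.mem_bot] at h2
      exact h2
    have h3 : t = fieldHom hD F σ t := mul_inv_eq_one.1 h1
    rw [ht, st_he hD σ hi] at h3
    have hσc : σ (c : F) ≠ 0 := by
      rw [Ne, map_eq_zero]
      exact c.ne_zero
    have h4 := he_conj hD hi hs c.ne_zero (1 : F)
    rw [h3, he_conj hD hi hs hσc, his, zpow_one, zpow_one, mul_one, mul_one] at h4
    have h5 : σ (c : F) = c := xe_inj hD hs h4
    ext y
    rcases eq_or_ne y 0 with rfl | hy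
    · rw [map_zero]; rfl
    · obtain ⟨k, hk⟩ := hc (Units.mk0 y hy)
      have h6 : y = (c : F) ^ k := by
        have := congrArg Units.val hk
        simpa using this.symm
      rw [h6, map_zpow₀, h5]
      rfl


/-! ### the types -/

/-- **`G₂ (q ≥ 4), F₄, E₆, E₇, E₈` in characteristic 2.** -/
theorem row2_chev (D : ChevalleyDatum) (hD : D ∈ [chevG2, chevF4, chevE6, chevE7, chevE8])
    {F : Type} [Field F] [Fintype F] [CharP F 2] (h4 : D = chevG2 → 4 ≤ Fintype.card F) :
    Row3 2 ↥(D.group F) := by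
  have hp : Fact (Nat.Prime 2) := ⟨Nat.prime_two⟩
  obtain ⟨f, -, hF⟩ := FiniteField.card F 2
  have hf : 1 ≤ (f : ℕ) := f.pos
  have hRA : Nat.card (RingAut F) = f := Cfsg.Agent.Lib.FieldAutCard.card_ringAut hf hF
  have hmem : D ∈ [chevG2, chevB2, chevD4, chevF4, chevE6, chevE7, chevE8] := by
    simp only [List.mem_cons, List.not_mem_nil, or_false] at hD ⊢
    tauto
  have hodd : ¬ 2 ∣ Nat.gcd 3 (2 ^ (f : ℕ) - 1) := by
    intro h
    exact absurd (h.trans (Nat.gcd_dvd_left 3 _)) (by norm_num)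
  have key : D = chevG2 ∨ D = chevF4 ∨ D = chevE6 ∨ D = chevE7 ∨ D = chevE8 := by
    simpa only [List.mem_cons, List.not_mem_nil, or_false] using hD
  have hside : D = chevG2 ∨ D = chevB2 → 3 ≤ Fintype.card F := by
    rintro (h | h)
    · exact (by norm_num : 3 ≤ 4).trans (h4 h)
    · exfalso
      have h1 := congrArg ChevalleyDatum.nroots h
      rcases key with rfl | rfl | rfl | rfl | rfl <;> revert h1 <;> decide +kernel
  obtain ⟨hs, hna⟩ := Cfsg.Agent.S2155.simple (F := F) D hmem hside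
  rcases key with rfl | rfl | rfl | rfl | rfl
  · refine row3_chev hmem hna (m := 1) (by norm_num) ?_ (i := 0) (s := 3)
      (by decide +kernel) (by decide +kernel) (by decide +kernel)
    have h3 := h4 rfl
    rw [Cfsg.Agent.S2121.result 2 f hF (by rw [← hF]; omega), if_neg (by omega), hRA, mul_one]
    exact Dvd.intro_left 2 rfl
  · refine row3_chev hmem hna (m := 1) (by norm_num) ?_ (i := 0) (s := 7)
      (by decide +kernel) (by decide +kernel) (by decide +kernel)
    rw [Cfsg.Agent.S2122.result 2 f hF, hRA]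
    norm_num
  · refine row3_chev hmem hna (m := Nat.gcd 3 (2 ^ (f : ℕ) - 1)) hodd ?_ (i := 0) (s := 16)
      (by decide +kernel) (by decide +kernel) (by decide +kernel)
    rw [Cfsg.Agent.S2123.result 2 f hF, hRA]
  · refine row3_chev hmem hna (m := 1) (by norm_num) ?_ (i := 0) (s := 1)
      (by decide +kernel) (by decide +kernel) (by decide +kernel)
    rw [Cfsg.Agent.S2124.result 2 f hF, hRA, mul_one]
    exact mul_dvd_mul_right (Nat.gcd_dvd_left 2 _) _
  · refine row3_chev hmem hna (m := 1) (by norm_num) ?_ (i := 0) (s := 14)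
      (by decide +kernel) (by decide +kernel) (by decide +kernel)
    rw [Cfsg.Agent.S2125.result 2 f hF, hRA, mul_one]
    exact Dvd.intro_left 2 rfl

end Cfsg.Agent.H233.B3
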