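import Mathlib

/-!
# Colourings of a `p`-group action with three colours (helper233, project S5761)

A finite `p`-group acting on a finite set has a colouring with three colours whose stabiliser acts trivially
(`exists_colour`); a transitive action has three inequivalent such colourings (`exists_asym`).
-/

set_option autoImplicit false

namespace Cfsg.Agent.H233.B3

open MulAction

universe u v

/-- three inequivalent colourings whose stabilisers act trivially -/
def Asym (P : Type*) [Group P] (Ω : Type*) [MulAction P Ω] (c : Fin 3 → Ω → Fin 3) : Prop :=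
  ∀ k l, ∀ g : P, (∀ ω, c k (g • ω) = c l ω) → k = l ∧ ∀ ω : Ω, g • ω = ω

/-- the two values of the `k`-th type function -/
def X : Fin 3 → Fin 3 := ![0, 0, 1]
def Y : Fin 3 → Fin 3 := ![1, 2, 2]

theorem XY_inj : ∀ k l : Fin 3, (Y l = X k ∨ Y l = Y k) → (X l = X k ∨ X l = Y k) → k = l := by decide

theorem XY_ne : ∀ k : Fin 3, X k ≠ Y k := by decide

theorem exists_asym_aux {p : ℕ} [Fact p.Prime] (n : ℕ) : ∀ (P : Type u) [Group P] [Finite P] (_ : IsPGroup p P)
    (Ω : Type v) [Finite Ω] [MulAction P Ω] [IsPretransitive P Ω] [Nonempty Ω], Nat.card Ω ≤ n →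
      ∃ c : Fin 3 → Ω → Fin 3, Asym P Ω c := by
  induction n with
  | zero =>
    intro P _ _ _ Ω _ _ _ _ h
    have : 0 < Nat.card Ω := Nat.card_pos
    omega
  | succ n ih =>
    intro P _ _ hP Ω _ _ _ _ hn
    by_cases hs : Subsingleton Ω
    · refine ⟨fun k _ => k, fun k l g h => ⟨?_, fun ω => Subsingleton.elim _ _⟩⟩
      obtain ⟨ω⟩ := (inferInstance : Nonempty Ω)
      exact h ω
    obtain ⟨ω0⟩ := (inferInstance : Nonempty Ω)
    have hS : stabilizer P ω0 ≠ ⊤ := by
      intro h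
      apply hs
      constructor
      intro a b
      obtain ⟨g, rfl⟩ := exists_smul_eq P ω0 a
      obtain ⟨g', rfl⟩ := exists_smul_eq P ω0 b
      have h1 : g ∈ stabilizer P ω0 := by rw [h]; trivial
      have h2 : g' ∈ stabilizer P ω0 := by rw [h]; trivial
      rw [mem_stabilizer_iff] at h1 h2
      rw [h1, h2]
    obtain ⟨M, hM, hSM⟩ := (eq_top_or_exists_le_coatom (stabilizer P ω0)).resolve_left hS
    have hnil : Group.IsNilpotent P := hP.isNilpotent
    have hMn : M.Normal := Subgroup.NormalizerCondition.normal_of_coatom M Group.normalizerCondition_of_isNilpotent hM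
    have hMt : M ≠ ⊤ := hM.1
    -- the block of `ω0`
    have hlt : Nat.card (orbit M ω0) ≤ n := by
      have h1 : (orbit M ω0) ≠ Set.univ := by
        intro h
        apply hMt
        rw [eq_top_iff]
        intro g _
        have h2 : g • ω0 ∈ orbit M ω0 := by rw [h]; trivial
        obtain ⟨m, hm⟩ := h2
        have h3 : (m : P)⁻¹ * g ∈ stabilizer P ω0 := by
          rw [mem_stabilizer_iff, mul_smul, inv_smul_eq_iff]
          exact hm.symm
        have h4 := M.mul_mem m.2 (hSM h3)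
        rwa [mul_inv_cancel_left] at h4
      have h2 : Nat.card (orbit M ω0) < Nat.card Ω := by
        rw [Nat.card_coe_set_eq, ← Set.ncard_univ]
        exact Set.ncard_lt_ncard (Set.ssubset_univ_iff.2 h1) Set.finite_univ
      omega
    have hne0 : Nonempty (orbit M ω0) := ⟨⟨ω0, mem_orbit_self ω0⟩⟩
    obtain ⟨d, hd⟩ := ih M (hP.to_subgroup M) (orbit M ω0) hlt
    -- projection to `P ⧸ M`
    let gg : Ω → P := fun ω => (exists_smul_eq P ω0 ω).choose
    have hgg : ∀ ω, gg ω • ω0 = ω := fun ω => (exists_smul_eq P ω0 ω).choose_spec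
    let π : Ω → P ⧸ M := fun ω => (gg ω : P ⧸ M)
    have hπ : ∀ h : P, π (h • ω0) = (h : P ⧸ M) := by
      intro h
      change ((gg (h • ω0) : P) : P ⧸ M) = (h : P ⧸ M)
      rw [eq_comm, QuotientGroup.eq]
      apply hSM
      rw [mem_stabilizer_iff, mul_smul, hgg, inv_smul_smul]
    have hπg : ∀ (g : P) (ω : Ω), π (g • ω) = (g : P ⧸ M) * π ω := by
      intro g ω
      conv_lhs => rw [← hgg ω, ← mul_smul, hπ]
      rfl
    let s : P ⧸ M → P := Quotient.out
    have hsq : ∀ q : P ⧸ M, ((s q : P) : P ⧸ M) = q := fun q => QuotientGroup.out_eq' q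
    have hmem : ∀ ω, (s (π ω))⁻¹ • ω ∈ orbit M ω0 := by
      intro ω
      have h1 : (s (π ω))⁻¹ * gg ω ∈ M := by
        rw [← QuotientGroup.eq, hsq]
      refine ⟨⟨_, h1⟩, ?_⟩
      change ((s (π ω))⁻¹ * gg ω) • ω0 = _
      rw [mul_smul, hgg]
    have hmem' : ∀ (ω : Ω) (q : P ⧸ M), π ω = q → (s q)⁻¹ • ω ∈ orbit M ω0 := by
      rintro ω _ rfl
      exact hmem ω
    let e : Fin 3 → P ⧸ M → Fin 3 := fun k q => by
      classical exact if q = 1 then Y k else X k
    have he1 : ∀ k, e k 1 = Y k := fun k => if_pos rfl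
    have he2 : ∀ k q, q ≠ 1 → e k q = X k := fun k q hq => if_neg hq
    have he3 : ∀ k q, e k q = X k ∨ e k q = Y k := by
      intro k q
      by_cases hq : q = 1
      · subst hq; exact Or.inr (he1 k)
      · exact Or.inl (he2 k q hq)
    let c : Fin 3 → Ω → Fin 3 := fun k ω => d (e k (π ω)) ⟨(s (π ω))⁻¹ • ω, hmem ω⟩
    have hc : ∀ k ω q (hq : π ω = q), c k ω = d (e k q) ⟨(s q)⁻¹ • ω, hmem' ω q hq⟩ := by
      rintro k ω _ rfl
      rfl
    refine ⟨c, fun k l g hg => ?_⟩
    have hh : ∀ q : P ⧸ M, (s ((g : P ⧸ M) * q))⁻¹ * g * s q ∈ M := by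
      intro q
      rw [mul_assoc, ← QuotientGroup.eq, hsq, QuotientGroup.mk_mul, hsq]
    have key : ∀ q : P ⧸ M, e k ((g : P ⧸ M) * q) = e l q ∧ ∀ δ : orbit M ω0,
        (⟨(s ((g : P ⧸ M) * q))⁻¹ * g * s q, hh q⟩ : M) • δ = δ := by
      intro q
      apply hd
      intro δ
      have h1 : π (s q • (δ : Ω)) = q := by
        obtain ⟨m, hm⟩ := δ.2
        have hm' : (m : P) • ω0 = (δ : Ω) := hm
        rw [← hm', ← mul_smul, hπ, QuotientGroup.mk_mul, hsq]
        have : ((m : P) : P ⧸ M) = 1 := (QuotientGroup.eq_one_iff _).2 m.2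
        rw [this, mul_one]
      have h2 : π (g • s q • (δ : Ω)) = (g : P ⧸ M) * q := by rw [hπg, h1]
      have h3 := hg (s q • (δ : Ω))
      rw [hc k _ _ h2, hc l _ _ h1] at h3
      have e1 : (⟨(s q)⁻¹ • s q • (δ : Ω), hmem' _ q h1⟩ : orbit M ω0) = δ := by
        apply Subtype.ext
        exact inv_smul_smul _ _
      have e2 : (⟨(s ((g : P ⧸ M) * q))⁻¹ • g • s q • (δ : Ω), hmem' _ _ h2⟩ : orbit M ω0) =
          (⟨(s ((g : P ⧸ M) * q))⁻¹ * g * s q, hh q⟩ : M) • δ := by
        apply Subtype.ext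
        rw [orbit.coe_smul]
        change _ = ((s ((g : P ⧸ M) * q))⁻¹ * g * s q) • (δ : Ω)
        rw [mul_smul, mul_smul]
      rw [e1, e2] at h3
      exact h3
    have hq1 : ∃ q1 : P ⧸ M, q1 ≠ 1 := by
      by_contra hcon
      push Not at hcon
      apply hMt
      rw [eq_top_iff]
      intro x _
      exact (QuotientGroup.eq_one_iff _).1 (hcon x)
    obtain ⟨q1, hq1⟩ := hq1
    have hkl : k = l := by
      apply XY_inj
      · have := (key 1).1
        rw [he1 l] at this
        rw [← this]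
        exact he3 k _
      · have := (key q1).1
        rw [he2 l q1 hq1] at this
        rw [← this]
        exact he3 k _
    refine ⟨hkl, ?_⟩
    subst hkl
    have hgM : (g : P ⧸ M) = 1 := by
      by_contra hne
      have := (key 1).1
      rw [mul_one, he1, he2 _ _ hne] at this
      exact XY_ne _ this
    intro ω
    have h1 := (key (π ω)).2 ⟨(s (π ω))⁻¹ • ω, hmem ω⟩
    have h2 := congrArg Subtype.val h1
    rw [orbit.coe_smul] at h2
    change ((s ((g : P ⧸ M) * π ω))⁻¹ * g * s (π ω)) • (s (π ω))⁻¹ • ω = (s (π ω))⁻¹ • ω at h2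
    rw [hgM, one_mul, mul_smul, mul_smul, smul_inv_smul] at h2
    exact smul_left_cancel _ h2

/-- a transitive action of a finite `p`-group has three inequivalent asymmetric colourings -/
theorem exists_asym {p : ℕ} [Fact p.Prime] (P : Type u) [Group P] [Finite P] (hP : IsPGroup p P)
    (Ω : Type v) [Finite Ω] [MulAction P Ω] [IsPretransitive P Ω] [Nonempty Ω] :
    ∃ c : Fin 3 → Ω → Fin 3, Asym P Ω c :=
  exists_asym_aux _ P hP Ω le_rfl

/-- **Colouring lemma.** -/
theorem exists_colour {p : ℕ} [Fact p.Prime] (P : Type u) [Group P] [Finite P] (hP : IsPGroup p P)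
    (Ω : Type v) [Finite Ω] [MulAction P Ω] :
    ∃ c : Ω → Fin 3, ∀ g : P, (∀ ω, c (g • ω) = c ω) → ∀ ω : Ω, g • ω = ω := by
  have h : ∀ O : orbitRel.Quotient P Ω, ∃ c : Fin 3 → O.orbit → Fin 3, Asym P O.orbit c := by
    intro O
    have hn : Nonempty O.orbit := by
      obtain ⟨x, hx⟩ := O.nonempty_orbit
      exact ⟨⟨x, hx⟩⟩
    exact exists_asym P hP O.orbit
  choose c hc using h
  let q : Ω → orbitRel.Quotient P Ω := fun ω => Quotient.mk'' ω
  have hq : ∀ ω, ω ∈ (q ω).orbit := fun ω => by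
    rw [orbitRel.Quotient.mem_orbit]
  have hqg : ∀ (g : P) ω, q (g • ω) = q ω := by
    intro g ω
    apply Quotient.sound'
    exact ⟨g, rfl⟩
  have hc' : ∀ ω (O : orbitRel.Quotient P Ω) (hO : q ω = O), c (q ω) 0 ⟨ω, hq ω⟩ = c O 0 ⟨ω, hO ▸ hq ω⟩ := by
    rintro ω _ rfl
    rfl
  refine ⟨fun ω => c (q ω) 0 ⟨ω, hq ω⟩, fun g hg ω => ?_⟩
  have h1 := (hc (q ω) 0 0 g (by
    intro ω'
    have e1 : q ω' = q ω := by
      have := ω'.2
      rw [orbitRel.Quotient.mem_orbit] at this
      exact this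
    have h2 := hg ω'
    have h3 := hc' (g • (ω' : Ω)) (q ω) (by rw [hqg, e1])
    have h4 := hc' (ω' : Ω) (q ω) e1
    exact h3.symm.trans (h2.trans h4))).2 ⟨ω, hq ω⟩
  exact congrArg Subtype.val h1

end Cfsg.Agent.H233.B3
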