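import Cfsg.Agent.H233.B3.Colour

/-!
# Gluing over the factors of a product of groups permuted by a `p`-group (helper233, project S5761)

`Row3 p T` : every `p`-subgroup `P` of `Aut T` has three inequivalent regular orbits on pairs of cosets.
`glue` : if `Q` permutes the commuting subgroups `T i`, each with `Row3`, then two elements of the product make
`Q`, `Q ^ n₁`, `Q ^ n₂` intersect trivially.
-/

set_option autoImplicit false

namespace Cfsg.Agent.H233.B3

open Subgroup MulAction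

universe u v

/-- Every `p`-subgroup `P` of `Aut T` has three inequivalent pairs `(a i, b i)` of elements of `T` such that
`P`, `P ^ (a i)`, `P ^ (b i)` intersect trivially. -/
def Row3 (p : ℕ) (T : Type*) [Group T] : Prop :=
  ∀ P : Subgroup (MulAut T), IsPGroup p P →
    ∃ a b : Fin 3 → T, ∀ i j, ∀ y ∈ P,
      MulAut.conj (a i) * y * (MulAut.conj (a j))⁻¹ ∈ P →
      MulAut.conj (b i) * y * (MulAut.conj (b j))⁻¹ ∈ P → i = j ∧ y = 1

/-- the automorphisms of `L` induced by the elements of `Q` normalising it -/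
def ind {G : Type u} [Group G] (Q L : Subgroup G) : Subgroup (MulAut L) where
  carrier := {α | ∃ g ∈ Q, ∀ s : L, ((α s : L) : G) = g * s * g⁻¹}
  mul_mem' := by
    rintro α β ⟨g, hg, h⟩ ⟨g', hg', h'⟩
    refine ⟨g * g', mul_mem hg hg', fun s => ?_⟩
    rw [MulAut.mul_apply, h, h']
    group
  one_mem' := ⟨1, one_mem _, fun s => by simp⟩
  inv_mem' := by
    rintro α ⟨g, hg, h⟩
    refine ⟨g⁻¹, inv_mem hg, fun s => ?_⟩
    have h1 := h (α⁻¹ s)
    rw [MulAut.apply_inv_self] at h1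
    rw [h1]
    group

theorem mem_ind {G : Type u} [Group G] {Q L : Subgroup G} {α : MulAut L} :
    α ∈ ind Q L ↔ ∃ g ∈ Q, ∀ s : L, ((α s : L) : G) = g * s * g⁻¹ := Iff.rfl

theorem ind_pow {G : Type u} [Group G] {L : Subgroup G} {α : MulAut L} {g : G}
    (h : ∀ s : L, ((α s : L) : G) = g * s * g⁻¹) (n : ℕ) : ∀ s : L, (((α ^ n) s : L) : G) = g ^ n * s * (g ^ n)⁻¹ := by
  induction n with
  | zero => intro s; simp
  | succ n ih =>
    intro s
    rw [pow_succ', MulAut.mul_apply, h, ih, pow_succ']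
    group

theorem ind_pgroup {G : Type u} [Group G] {p : ℕ} {Q L : Subgroup G} (hQ : IsPGroup p Q) :
    IsPGroup p (ind Q L) := by
  rintro ⟨α, g, hg, h⟩
  obtain ⟨n, hn⟩ := hQ ⟨g, hg⟩
  refine ⟨n, ?_⟩
  have hn' : g ^ p ^ n = 1 := by simpa using congrArg Subtype.val hn
  apply Subtype.ext
  change α ^ p ^ n = 1
  ext s
  rw [ind_pow h, hn']
  simp

/-- the automorphism of `L` induced by `g` -/
theorem exists_ind {G : Type u} [Group G] {Q L : Subgroup G} {g : G} (hg : g ∈ Q)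
    (hgL : L.map (MulAut.conj g).toMonoidHom = L) : ∃ α ∈ ind Q L, ∀ s : L, ((α s : L) : G) = g * s * g⁻¹ := by
  have hn : g ∈ normalizer (L : Set G) := by
    rw [mem_normalizer_iff]
    intro h
    constructor
    · intro hh
      rw [← hgL]
      exact ⟨h, hh, rfl⟩
    · intro hh
      rw [← hgL] at hh
      obtain ⟨h', hh', e⟩ := hh
      have e' : g * h' * g⁻¹ = g * h * g⁻¹ := e
      have : h' = h := mul_left_cancel (mul_right_cancel e')
      exact this ▸ hh'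
  exact ⟨L.normalizerMonoidHom ⟨g, hn⟩, ⟨g, hg, fun s => rfl⟩, fun s => rfl⟩

/-- an element of the product acting on each factor as a given element -/
theorem exists_prod {G : Type u} [Group G] {ι : Type v} [Finite ι] (T : ι → Subgroup G)
    (hcomm : ∀ i j, i ≠ j → ∀ x ∈ T i, ∀ y ∈ T j, x * y = y * x) (f : ∀ i, T i) :
    ∃ n ∈ ⨆ i, T i, ∀ i, ∀ s ∈ T i, n * s * n⁻¹ = (f i : G) * s * (f i : G)⁻¹ := by
  classical
  have _ : Fintype ι := Fintype.ofFinite ι
  have pw : Pairwise fun i j : ι => ∀ x y : G, x ∈ T i → y ∈ T j → Commute x y :=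
    fun i j hij x y hx hy => hcomm i j hij x hx y hy
  refine ⟨Subgroup.noncommPiCoprod pw f, ?_, ?_⟩
  · rw [← Subgroup.noncommPiCoprod_range (hcomm := pw)]
    exact ⟨f, rfl⟩
  · intro i s hs
    have h1 : Subgroup.noncommPiCoprod pw (Pi.mulSingle i ⟨s, hs⟩) = s := Subgroup.noncommPiCoprod_mulSingle _ _
    have h2 : Subgroup.noncommPiCoprod pw (Pi.mulSingle i (f i * ⟨s, hs⟩ * (f i)⁻¹)) =
        ((f i * ⟨s, hs⟩ * (f i)⁻¹ : T i) : G) := Subgroup.noncommPiCoprod_mulSingle _ _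
    have h3 : f * Pi.mulSingle i ⟨s, hs⟩ * f⁻¹ = Pi.mulSingle i (f i * ⟨s, hs⟩ * (f i)⁻¹) := by
      funext j
      by_cases hj : j = i
      · subst hj
        simp
      · simp [Pi.mulSingle_eq_of_ne hj]
    calc Subgroup.noncommPiCoprod pw f * s * (Subgroup.noncommPiCoprod pw f)⁻¹
        = Subgroup.noncommPiCoprod pw (f * Pi.mulSingle i ⟨s, hs⟩ * f⁻¹) := by rw [map_mul, map_mul, map_inv, h1]
      _ = _ := by rw [h3, h2]; rfl

/-- **Gluing lemma.** -/
theorem glue {G : Type u} [Group G] [Finite G] {p : ℕ} [Fact p.Prime] {ι : Type v} [Finite ι] (T : ι → Subgroup G)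
    (hinj : Function.Injective T) (hcomm : ∀ i j, i ≠ j → ∀ x ∈ T i, ∀ y ∈ T j, x * y = y * x)
    (Q : Subgroup G) (hQ : IsPGroup p Q)
    (hact : ∀ g ∈ Q, ∀ i, ∃ j, (T i).map (MulAut.conj g).toMonoidHom = T j)
    (hrow : ∀ i, Row3 p (T i)) (hf : ∀ g ∈ Q, (∀ i, ∀ s ∈ T i, g * s * g⁻¹ = s) → g = 1) :
    ∃ n₁ ∈ ⨆ i, T i, ∃ n₂ ∈ ⨆ i, T i, ∀ g ∈ Q, n₁ * g * n₁⁻¹ ∈ Q → n₂ * g * n₂⁻¹ ∈ Q → g = 1 := by
  have mapmul : ∀ (g h : G) (L : Subgroup G), L.map (MulAut.conj (g * h)).toMonoidHom =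
      (L.map (MulAut.conj h).toMonoidHom).map (MulAut.conj g).toMonoidHom := by
    intro g h L
    rw [Subgroup.map_map]
    congr 1
    ext x
    simp [MulAut.conj_apply, mul_assoc]
  let act : MulAction Q ι :=
    { smul := fun g i => (hact g g.2 i).choose
      one_smul := fun i => hinj (by
        have h := (hact (1 : G) (one_mem Q) i).choose_spec
        change T (hact (1 : G) (one_mem Q) i).choose = T i
        rw [← h]
        ext x
        simp [Subgroup.mem_map])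
      mul_smul := fun g h i => hinj (by
        have h1 := (hact _ (g * h).2 i).choose_spec
        have h2 := (hact _ h.2 i).choose_spec
        have h3 := (hact _ g.2 (hact _ h.2 i).choose).choose_spec
        change T (hact _ (g * h).2 i).choose = T (hact _ g.2 (hact _ h.2 i).choose).choose
        rw [← h1, ← h3, ← h2]
        exact mapmul g h (T i)) }
  have hsm : ∀ (g : Q) i, T (g • i) = (T i).map (MulAut.conj (g : G)).toMonoidHom :=
    fun g i => ((hact g g.2 i).choose_spec).symm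
  have hmem : ∀ (g : Q) i (s : G), s ∈ T i → (g : G) * s * (g : G)⁻¹ ∈ T (g • i) := by
    intro g i s hs
    rw [hsm]
    exact ⟨s, hs, rfl⟩
  obtain ⟨χ, hχ⟩ := exists_colour Q hQ ι
  -- representatives
  let r : ι → ι := fun i => (Quotient.mk'' i : orbitRel.Quotient Q ι).out
  have hr : ∀ (g : Q) i, r (g • i) = r i := by
    intro g i
    have : (Quotient.mk'' (g • i) : orbitRel.Quotient Q ι) = Quotient.mk'' i := Quotient.sound' ⟨g, rfl⟩
    change (Quotient.mk'' (g • i) : orbitRel.Quotient Q ι).out = (Quotient.mk'' i : orbitRel.Quotient Q ι).out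
    rw [this]
  have hrt : ∀ i, ∃ t : Q, t • i = r i := by
    intro i
    have h1 : (Quotient.mk'' (r i) : orbitRel.Quotient Q ι) = Quotient.mk'' i := Quotient.out_eq' _
    have h2 := Quotient.exact' h1
    obtain ⟨t, ht⟩ := h2
    exact ⟨t, ht⟩
  choose t ht using hrt
  have hrow' : ∀ i, ∃ a b : Fin 3 → T i, ∀ k l, ∀ y ∈ ind Q (T i),
      MulAut.conj (a k) * y * (MulAut.conj (a l))⁻¹ ∈ ind Q (T i) →
      MulAut.conj (b k) * y * (MulAut.conj (b l))⁻¹ ∈ ind Q (T i) → k = l ∧ y = 1 :=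
    fun i => hrow i _ (ind_pgroup hQ)
  choose a b hab using hrow'
  -- transported elements
  have hti : ∀ i, (t i)⁻¹ • r i = i := fun i => by rw [inv_smul_eq_iff, ht i]
  have hback : ∀ i (x : G), x ∈ T (r i) → ((t i : G))⁻¹ * x * (t i : G) ∈ T i := by
    intro i x hx
    have h1 := hmem (t i)⁻¹ (r i) x hx
    rw [hti i] at h1
    simpa using h1
  have htr : ∀ (f : ∀ i, Fin 3 → T i) i, ((t i : G))⁻¹ * (f (r i) (χ i) : G) * (t i : G) ∈ T i :=
    fun f i => hback i _ (f (r i) (χ i)).2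
  obtain ⟨n1, hn1, h1⟩ := exists_prod T hcomm (fun i => ⟨_, htr a i⟩)
  obtain ⟨n2, hn2, h2⟩ := exists_prod T hcomm (fun i => ⟨_, htr b i⟩)
  refine ⟨n1, hn1, n2, hn2, fun g hg hg1 hg2 => ?_⟩
  -- the induced automorphism
  have key : ∀ (f : ∀ i, Fin 3 → T i) (n : G) (hn : ∀ i, ∀ s ∈ T i, n * s * n⁻¹ =
        ((t i : G))⁻¹ * (f (r i) (χ i) : G) * (t i : G) * s * (((t i : G))⁻¹ * (f (r i) (χ i) : G) * (t i : G))⁻¹)
      (_ : n * g * n⁻¹ ∈ Q) (i j : ι) (ρ : ι), j = (⟨g, hg⟩ : Q) • i → r i = ρ → r j = ρ → ∀ y ∈ ind Q (T ρ),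
        (∀ s : T ρ, ((y s : T ρ) : G) = ((t j : G) * g * (t i : G)⁻¹) * s * ((t j : G) * g * (t i : G)⁻¹)⁻¹) →
        MulAut.conj (f ρ (χ j)) * y * (MulAut.conj (f ρ (χ i)))⁻¹ ∈ ind Q (T ρ) := by
    rintro f n hn hng i j ρ hj rfl hrj y hy hys
    refine ⟨(t j : G) * (n * g * n⁻¹) * (t i : G)⁻¹, mul_mem (mul_mem (t j).2 hng) (inv_mem (t i).2), fun s => ?_⟩
    set u := f (r i) (χ i) with hu
    set w := f (r i) (χ j) with hw
    have e1 : ((MulAut.conj w * y * (MulAut.conj u)⁻¹) s : T (r i)) = w * y (u⁻¹ * s * u) * w⁻¹ := by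
      simp [MulAut.mul_apply, MulAut.conj_apply]
    rw [e1]
    rw [Subgroup.coe_mul, Subgroup.coe_mul, hys]
    simp only [Subgroup.coe_mul, Subgroup.coe_inv]
    -- s' = t_i⁻¹ s t_i in T i
    have hs' : (t i : G)⁻¹ * (s : G) * (t i : G) ∈ T i := hback i _ s.2
    -- n⁻¹ s' n
    have hu' : (t i : G)⁻¹ * ((u : G)⁻¹ * s * u) * (t i : G) ∈ T i := by
      have h3 := hback i _ (u⁻¹ * s * u).2
      simpa using h3
    have e2 : n⁻¹ * ((t i : G)⁻¹ * (s : G) * (t i : G)) * n = (t i : G)⁻¹ * ((u : G)⁻¹ * s * u) * (t i : G) := by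
      have h3 := hn i _ hu'
      rw [← hu] at h3
      have h4 : n * ((t i : G)⁻¹ * ((u : G)⁻¹ * s * u) * (t i : G)) * n⁻¹ = (t i : G)⁻¹ * (s : G) * (t i : G) := by
        rw [h3]; group
      rw [← h4]; group
    have hgs : g * ((t i : G)⁻¹ * ((u : G)⁻¹ * s * u) * (t i : G)) * g⁻¹ ∈ T j := by
      rw [hj]
      exact hmem ⟨g, hg⟩ i _ hu'
    have e3 := hn j _ hgs
    rw [hrj, ← hw] at e3
    calc (w : G) * ((t j : G) * g * (t i : G)⁻¹ * ((u : G)⁻¹ * s * u) * ((t j : G) * g * (t i : G)⁻¹)⁻¹) * (w : G)⁻¹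
        = (t j : G) * (((t j : G))⁻¹ * (w : G) * (t j : G) * (g * ((t i : G)⁻¹ * ((u : G)⁻¹ * s * u) * (t i : G)) * g⁻¹) *
            (((t j : G))⁻¹ * (w : G) * (t j : G))⁻¹) * (t j : G)⁻¹ := by group
      _ = (t j : G) * (n * (g * ((t i : G)⁻¹ * ((u : G)⁻¹ * s * u) * (t i : G)) * g⁻¹) * n⁻¹) * (t j : G)⁻¹ := by rw [e3]
      _ = (t j : G) * (n * (g * (n⁻¹ * ((t i : G)⁻¹ * (s : G) * (t i : G)) * n) * g⁻¹) * n⁻¹) * (t j : G)⁻¹ := by rw [e2]
      _ = _ := by group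
  have main : ∀ i, χ ((⟨g, hg⟩ : Q) • i) = χ i ∧ ∀ s ∈ T (r i),
      ((t ((⟨g, hg⟩ : Q) • i) : G) * g * (t i : G)⁻¹) * s * ((t ((⟨g, hg⟩ : Q) • i) : G) * g * (t i : G)⁻¹)⁻¹ = s := by
    intro i
    set j := (⟨g, hg⟩ : Q) • i with hj
    have hrj : r j = r i := hr _ _
    have hst : (T (r i)).map (MulAut.conj ((t j : G) * g * (t i : G)⁻¹)).toMonoidHom = T (r i) := by
      have h3 := hsm (t j * ⟨g, hg⟩ * (t i)⁻¹) (r i)
      rw [mul_smul, mul_smul, hti i, ← hj, ht j, hrj] at h3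
      exact h3.symm
    obtain ⟨y, hy, hys⟩ := exists_ind (Q := Q) (L := T (r i)) (g := (t j : G) * g * (t i : G)⁻¹)
      (mul_mem (mul_mem (t j).2 hg) (inv_mem (t i).2)) hst
    have k1 := key a n1 h1 hg1 i j (r i) hj rfl hrj y hy hys
    have k2 := key b n2 h2 hg2 i j (r i) hj rfl hrj y hy hys
    obtain ⟨c1, c2⟩ := hab (r i) (χ j) (χ i) y hy k1 k2
    refine ⟨c1, fun s hs => ?_⟩
    have := hys ⟨s, hs⟩
    rw [c2] at this
    exact this.symm
  have hfix : ∀ i, (⟨g, hg⟩ : Q) • i = i := hχ ⟨g, hg⟩ fun i => (main i).1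
  apply hf g hg
  intro i s hs
  have h3 := (main i).2 ((t i : G) * s * (t i : G)⁻¹) (by
    rw [← ht i]
    exact hmem (t i) i s hs)
  rw [hfix i] at h3
  have h4 : (t i : G) * (g * s * g⁻¹) * (t i : G)⁻¹ = (t i : G) * s * (t i : G)⁻¹ := by
    rw [← h3]; group
  exact mul_left_cancel (mul_right_cancel h4)

end Cfsg.Agent.H233.B3
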