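import Cfsg.Agent.H233.B3.Row3
import Cfsg.Agent.H185.MeetChar

/-!
# Rows `Row3 2 T` in defining characteristic, abstract form (helper233)

As `H185.MeetChar.meet_of_frame`, with `|Out T|` dividing `2 m |Γ|` (one graph automorphism is allowed).
-/

set_option autoImplicit false

namespace Cfsg.Agent.H233.B3

open Subgroup Cfsg.Agent.H903.SylMeet Cfsg.Agent.H185.MeetChar

variable {T : Type*} [Group T]

theorem row3_of_frame [Finite T] [IsSimpleGroup T] (hT : ¬ IsMulCommutative T)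
    {U : Subgroup T} (hU : IsPGroup 2 U) (hUi : ¬ 2 ∣ U.index)
    {Γ : Type*} [Group Γ] [Finite Γ] (st : Γ →* MulAut T) (hst : ∀ γ, ∀ u ∈ U, st γ u ∈ U)
    {m : ℕ} (hm : ¬ 2 ∣ m) (hout : Nat.card (Cfsg.Out T) ∣ 2 * m * Nat.card Γ)
    (k t : T) (hk : ∀ γ, st γ k = k) (hkU : ∀ u ∈ U, k * u * k⁻¹ ∈ U → u = 1)
    (hopp : ∀ u ∈ U, ∀ γ, t * (k * u * k⁻¹) * (st γ t)⁻¹ ∈ U → u = 1)
    (hreg : ∀ γ, (∃ n, γ ^ 2 ^ n = 1) → t * (st γ t)⁻¹ ∈ U → γ = 1) : Row3 2 T := by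
  have hF : Fact (Nat.Prime 2) := ⟨Nat.prime_two⟩
  have hp : Nat.Prime 2 := Nat.prime_two
  have hinj := conj_injective (T := T) hT
  obtain ⟨S⟩ : Nonempty (Sylow 2 Γ) := inferInstance
  have hS : ∀ γ ∈ (S : Subgroup Γ), ∃ n, γ ^ 2 ^ n = 1 := by
    intro γ hγ
    obtain ⟨n, hn⟩ := S.isPGroup' ⟨γ, hγ⟩
    exact ⟨n, by simpa using congrArg Subtype.val hn⟩
  -- `D ∩ Inn T = 1`
  have hDI : ∀ γ ∈ (S : Subgroup Γ), ∀ g : T, MulAut.conj g = st γ → γ = 1 := by
    intro γ hγ g hg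
    obtain ⟨n, hn⟩ := hS γ hγ
    have hgn : g ^ 2 ^ n = 1 := by
      apply hinj
      rw [map_pow, hg, ← map_pow, hn, map_one, map_one]
    have hgU : g ∈ U := by
      apply Cfsg.Agent.H185.MeetChar.mem_of_normalises hU hUi hgn
      intro u hu
      have := hst γ u hu
      rw [← hg] at this
      exact this
    have h1 : g * k * g⁻¹ = k := by
      have := hk γ
      rw [← hg] at this
      exact this
    have h2 : k * g * k⁻¹ = g := by
      rw [mul_inv_eq_iff_eq_mul, ← mul_inv_eq_iff_eq_mul.1 h1]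
    have h3 : g = 1 := hkU g hgU (by rw [h2]; exact hgU)
    have h4 : st γ = 1 := by rw [← hg, h3, map_one]
    exact hreg γ ⟨n, hn⟩ (by rw [h4]; simp)
  have huniq : ∀ u ∈ U, ∀ u' ∈ U, ∀ γ ∈ (S : Subgroup Γ), ∀ γ' ∈ (S : Subgroup Γ), ∀ g : T,
      MulAut.conj g * st γ = MulAut.conj u' * st γ' → γ = γ' ∧ g = u' := by
    intro u _ u' _ γ hγ γ' hγ' g h
    have h1 : MulAut.conj (u'⁻¹ * g) = st (γ' * γ⁻¹) := by
      rw [map_mul, map_mul, map_inv, map_inv, inv_mul_eq_iff_eq_mul, ← mul_assoc, ← h, mul_assoc, mul_inv_cancel,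
        mul_one]
    have h2 := hDI _ (mul_mem hγ' (inv_mem hγ)) _ h1
    have h3 : γ = γ' := (mul_inv_eq_one.1 h2).symm
    refine ⟨h3, ?_⟩
    subst h3
    exact hinj (mul_right_cancel h)
  -- the order of `P`
  have hcard : Nat.card ↥(PP U (S : Subgroup Γ) st hst) = Nat.card U * Nat.card S := by
    rw [← Nat.card_prod]
    symm
    refine Nat.card_congr (Equiv.ofBijective (fun a => ⟨MulAut.conj (a.1 : T) * st (a.2 : Γ),
      ⟨a.1, a.1.2, a.2, a.2.2, rfl⟩⟩) ⟨?_, ?_⟩)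
    · rintro ⟨⟨u, hu⟩, ⟨γ, hγ⟩⟩ ⟨⟨u', hu'⟩, ⟨γ', hγ'⟩⟩ h
      obtain ⟨h1, h2⟩ := huniq u hu u' hu' γ hγ γ' hγ' u (congrArg Subtype.val h)
      subst h1
      subst h2
      rfl
    · rintro ⟨y, u, hu, γ, hγ, rfl⟩
      exact ⟨⟨⟨u, hu⟩, ⟨γ, hγ⟩⟩, rfl⟩
  obtain ⟨a, ha⟩ := hU.exists_card_eq
  obtain ⟨b, hb⟩ := S.isPGroup'.exists_card_eq
  have hPp : IsPGroup 2 ↥(PP U (S : Subgroup Γ) st hst) := by
    apply IsPGroup.of_card (n := a + b)
    rw [hcard, ha, hb, pow_add]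
  obtain ⟨S2, hS2⟩ := hPp.exists_le_sylow
  -- the index in a Sylow subgroup is at most two
  have h4 : ¬ 4 ∣ (PP U (S : Subgroup Γ) st hst).index := by
    intro hdvd
    have h1 := Subgroup.card_mul_index (PP U (S : Subgroup Γ) st hst)
    rw [hcard, ← Cfsg.Agent.H934.OutB.card_out_mul T hT] at h1
    have h2 := U.card_mul_index
    have h3 := (S : Subgroup Γ).card_mul_index
    have h4 : 2 * 2 * (Nat.card U * Nat.card S) ∣
        2 * m * (Nat.card S * (S : Subgroup Γ).index) * (Nat.card U * U.index) := by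
      rw [h2, h3]
      refine dvd_trans ?_ (mul_dvd_mul_right hout _)
      rw [← h1, mul_comm (2 * 2)]
      exact mul_dvd_mul_left _ hdvd
    have h5 : 2 * m * (Nat.card S * (S : Subgroup Γ).index) * (Nat.card U * U.index) =
        (2 * (m * (S : Subgroup Γ).index * U.index)) * (Nat.card U * Nat.card S) := by ring
    rw [h5] at h4
    have h6 := Nat.dvd_of_mul_dvd_mul_right (Nat.mul_pos Nat.card_pos Nat.card_pos) h4
    have h6' := Nat.dvd_of_mul_dvd_mul_left (by norm_num) h6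
    rcases (hp.dvd_mul.1 h6') with h7 | h7
    · rcases (hp.dvd_mul.1 h7) with h8 | h8
      · exact hm h8
      · exact S.not_dvd_index h8
    · exact hUi h7
  have hrel : (PP U (S : Subgroup Γ) st hst).relIndex (S2 : Subgroup (MulAut T)) ≤ 2 := by
    obtain ⟨c, hc⟩ := S2.isPGroup'.exists_card_eq
    have hc' : Nat.card (S2 : Subgroup (MulAut T)) = 2 ^ c := hc
    have h1 : (PP U (S : Subgroup Γ) st hst).relIndex (S2 : Subgroup (MulAut T)) ∣ 2 ^ c := by
      rw [← hc']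
      exact Subgroup.relIndex_dvd_card _ _
    obtain ⟨j, -, hj⟩ := (Nat.dvd_prime_pow hp).1 h1
    have h2 : (PP U (S : Subgroup Γ) st hst).relIndex (S2 : Subgroup (MulAut T)) ∣
        (PP U (S : Subgroup Γ) st hst).index := Subgroup.relIndex_dvd_index_of_le hS2
    rw [hj] at h2 ⊢
    rcases Nat.lt_or_ge j 2 with h3 | h3
    · interval_cases j <;> norm_num
    · exact absurd ((pow_dvd_pow 2 h3).trans h2) h4
  have hUle : U ≤ inn (S2 : Subgroup (MulAut T)) := by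
    intro u hu
    rw [mem_inn]
    apply hS2
    rw [mem_PP]
    exact ⟨u, hu, 1, one_mem _, by simp⟩
  have hinnU : inn (S2 : Subgroup (MulAut T)) = U := by
    have hmax := (hU.toSylow hUi).is_maximal' (inn_pgroup hT S2.isPGroup') hUle
    exact hmax
  refine row3_of_index (S2 : Subgroup (MulAut T)) S2.isPGroup' S2.not_dvd_index ?_
  refine g3_of_le hT S2.isPGroup' _ hS2 ?_ hrel (t * k) ?_
  · intro s hs
    have h1 : s ∈ U := by
      rw [← hinnU, mem_inn]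
      exact hs
    rw [mem_PP]
    exact ⟨s, h1, 1, one_mem _, by simp⟩
  · rintro _ ⟨u, hu, γ, hγ, rfl⟩ h
    rw [conj_mul_aut] at h
    obtain ⟨u', hu', γ', hγ', h'⟩ := h
    obtain ⟨-, h1⟩ := huniq u hu u' hu' γ hγ γ' hγ' _ h'
    have h2 : t * k * u * (st γ (t * k))⁻¹ = t * (k * u * k⁻¹) * (st γ t)⁻¹ := by
      rw [map_mul, hk]
      group
    rw [h2] at h1
    have h3 : u = 1 := hopp u hu γ (by rw [h1]; exact hu')
    subst h3
    have h4 : γ = 1 := by
      apply hreg γ (hS γ hγ)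
      have : t * (st γ t)⁻¹ = t * (k * 1 * k⁻¹) * (st γ t)⁻¹ := by group
      rw [this, h1]
      exact hu'
    rw [h4, map_one, map_one, mul_one]

end Cfsg.Agent.H233.B3
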