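import Cfsg.Agent.H233.B3.Glue
import Cfsg.Agent.H578.PiSolv

/-!
# S5761: the `p`-solvable local case (helper233)
-/

set_option autoImplicit false

namespace Cfsg.Agent.H233.B3

open Subgroup
open scoped Pointwise

universe u

/-- the `p`-solvable case, `M = N Q` with `N` a `p'`-group -/
theorem local_coprime {G : Type u} [Group G] [Finite G] {p : ℕ} [Fact p.Prime] (N Q : Subgroup G) [hNn : N.Normal]
    (hN : ¬ p ∣ Nat.card N) (hQ : IsPGroup p Q) (hf : ∀ g ∈ Q, (∀ s ∈ N, g * s = s * g) → g = 1) :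
    ∃ n₁ ∈ N, ∃ n₂ ∈ N, ∀ g ∈ Q, n₁ * g * n₁⁻¹ ∈ Q → n₂ * g * n₂⁻¹ ∈ Q → g = 1 := by
  have hp : p.Prime := Fact.out
  let M : Subgroup G := Q ⊔ N
  have hNM : N ≤ M := le_sup_right
  have hQM : Q ≤ M := le_sup_left
  have hdec : ∀ m ∈ M, ∃ n ∈ N, ∃ q ∈ Q, m = n * q := by
    intro m hm
    obtain ⟨q, hq, n, hn, rfl⟩ := Subgroup.mem_sup_of_normal_right.1 hm
    exact ⟨q * n * q⁻¹, hNn.conj_mem n hn q, q, hq, by group⟩
  -- a `p`-element of `N` is trivial
  have hNQ : ∀ z ∈ N, z ∈ Q → z = 1 := by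
    intro z hz hzQ
    obtain ⟨k, hk⟩ := hQ ⟨z, hzQ⟩
    have h1 : z ^ p ^ k = 1 := by simpa using congrArg Subtype.val hk
    have h2 : orderOf z ∣ Nat.card N := by
      have := orderOf_dvd_natCard (⟨z, hz⟩ : N)
      rwa [← Subgroup.orderOf_coe] at this
    obtain ⟨j, -, hj⟩ := (Nat.dvd_prime_pow hp).1 (orderOf_dvd_of_pow_eq_one h1)
    rcases Nat.eq_zero_or_pos j with h0 | h0
    · rw [h0, pow_zero, orderOf_eq_one_iff] at hj
      exact hj
    · exact absurd ((dvd_pow_self p h0.ne').trans (hj ▸ h2)) hN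
  obtain ⟨a, ha⟩ := hQ.exists_card_eq
  have hidx : (N.subgroupOf M).index = Nat.card Q := by
    change N.relIndex (Q ⊔ N) = _
    rw [Subgroup.relIndex_sup_right]
    have h1 : N.subgroupOf Q = ⊥ := by
      rw [eq_bot_iff]
      intro z hz
      rw [mem_bot]
      exact Subtype.ext (hNQ z (mem_subgroupOf.1 hz) z.2)
    change (N.subgroupOf Q).index = _
    rw [h1, index_bot]
  have hcN : Nat.card (N.subgroupOf M) = Nat.card N := Nat.card_congr (Subgroup.subgroupOfEquivOfLe hNM).toEquiv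
  have hcQ : Nat.card (Q.subgroupOf M) = Nat.card Q := Nat.card_congr (Subgroup.subgroupOfEquivOfLe hQM).toEquiv
  have hcM : Nat.card Q * Nat.card N = Nat.card M := by
    rw [← hidx, ← hcN]
    exact index_mul_card _
  have hidQ : (Q.subgroupOf M).index = Nat.card N := by
    have h1 := index_mul_card (Q.subgroupOf M)
    rw [hcQ, ← hcM, mul_comm] at h1
    exact Nat.eq_of_mul_eq_mul_left Nat.card_pos h1
  have hser : (∃ (n : ℕ) (K : Fin (n + 1) → Subgroup M), K 0 = ⊥ ∧ K (Fin.last n) = ⊤ ∧ Monotone K ∧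
      (∀ i, (K i).Normal) ∧
      ∀ i : Fin n, (∃ q ∈ ({p} : Set ℕ), q.Prime ∧ ∃ k : ℕ, (K i.castSucc).relIndex (K i.succ) = q ^ k) ∨
        (∀ q : ℕ, q.Prime → q ∣ (K i.castSucc).relIndex (K i.succ) → q ∉ ({p} : Set ℕ))) := by
    refine ⟨2, ![⊥, N.subgroupOf M, ⊤], rfl, rfl, ?_, ?_, ?_⟩
    · rw [Fin.monotone_iff_le_succ]
      intro i
      fin_cases i
      · exact bot_le
      · exact le_top
    · intro i
      fin_cases i
      · exact (inferInstance : (⊥ : Subgroup M).Normal)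
      · exact (inferInstance : (N.subgroupOf M).Normal)
      · exact (inferInstance : (⊤ : Subgroup M).Normal)
    · intro i
      fin_cases i
      · right
        intro q hq hd
        change q ∣ (⊥ : Subgroup M).relIndex (N.subgroupOf M) at hd
        rw [relIndex_bot_left, hcN] at hd
        rintro rfl
        exact hN hd
      · left
        refine ⟨p, rfl, hp, a, ?_⟩
        change (N.subgroupOf M).relIndex ⊤ = _
        rw [relIndex_top_right, hidx, ha]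
  have hHall : Cfsg.IsPiHall ({p} : Set ℕ) (Q.subgroupOf M) := by
    constructor
    · intro q hq hd
      rw [hcQ, ha] at hd
      exact (Nat.prime_dvd_prime_iff_eq hq hp).1 (hq.dvd_of_dvd_pow hd)
    · rintro q hq rfl hd
      rw [hidQ] at hd
      exact hN hd
  obtain ⟨x, y, hxy⟩ := Cfsg.Agent.H578.PiSolv.general hser hHall
  have hcore : ∀ g ∈ Cfsg.piCore ({p} : Set ℕ) M, g = 1 := by
    intro g hg
    have hle : Cfsg.piCore ({p} : Set ℕ) M ≤ Q.subgroupOf M := by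
      rw [← hxy]
      exact inf_le_left.trans inf_le_left
    have hgQ : (g : G) ∈ Q := mem_subgroupOf.1 (hle hg)
    apply Subtype.ext
    refine hf g hgQ fun s hs => ?_
    have h1 : g * ⟨s, hNM hs⟩ * g⁻¹ * (⟨s, hNM hs⟩ : M)⁻¹ ∈ Cfsg.piCore ({p} : Set ℕ) M := by
      have h2 := (Cfsg.piCore_normal ({p} : Set ℕ) M).conj_mem _ (inv_mem hg) ⟨s, hNM hs⟩
      have h3 := mul_mem hg h2
      simpa [mul_assoc] using h3
    have h2 : (g : G) * s * (g : G)⁻¹ * s⁻¹ ∈ Q := mem_subgroupOf.1 (hle h1)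
    have h3 : (g : G) * s * (g : G)⁻¹ * s⁻¹ ∈ N := mul_mem (hNn.conj_mem s hs g) (inv_mem hs)
    have h4 := hNQ _ h3 h2
    rw [mul_inv_eq_one, mul_inv_eq_iff_eq_mul] at h4
    exact h4
  obtain ⟨n, hn, q, hq, hx⟩ := hdec x x.2
  obtain ⟨n', hn', q', hq', hy⟩ := hdec y y.2
  refine ⟨n⁻¹, inv_mem hn, n'⁻¹, inv_mem hn', fun g hg h1 h2 => ?_⟩
  have hgM : g ∈ M := hQM hg
  have h3 : (⟨g, hgM⟩ : M) ∈ Q.subgroupOf M ⊓ MulAut.conj x • Q.subgroupOf M ⊓ MulAut.conj y • Q.subgroupOf M := by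
    refine ⟨⟨hg, ?_⟩, ?_⟩
    · change (⟨g, hgM⟩ : M) ∈ MulAut.conj x • Q.subgroupOf M
      rw [Subgroup.mem_pointwise_smul_iff_inv_smul_mem, ← map_inv, MulAut.smul_def, MulAut.conj_apply,
        mem_subgroupOf]
      change (x : G)⁻¹ * g * ((x : G)⁻¹)⁻¹ ∈ Q
      rw [hx]
      have : (n * q)⁻¹ * g * ((n * q)⁻¹)⁻¹ = q⁻¹ * (n⁻¹ * g * (n⁻¹)⁻¹) * q := by group
      rw [this]
      exact mul_mem (mul_mem (inv_mem hq) h1) hq
    · change (⟨g, hgM⟩ : M) ∈ MulAut.conj y • Q.subgroupOf M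
      rw [Subgroup.mem_pointwise_smul_iff_inv_smul_mem, ← map_inv, MulAut.smul_def, MulAut.conj_apply,
        mem_subgroupOf]
      change (y : G)⁻¹ * g * ((y : G)⁻¹)⁻¹ ∈ Q
      rw [hy]
      have : (n' * q')⁻¹ * g * ((n' * q')⁻¹)⁻¹ = q'⁻¹ * (n'⁻¹ * g * (n'⁻¹)⁻¹) * q' := by group
      rw [this]
      exact mul_mem (mul_mem (inv_mem hq') h2) hq'
  rw [hxy] at h3
  exact congrArg Subtype.val (hcore _ h3)

end Cfsg.Agent.H233.B3
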