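import Cfsg.Agent.H233.B3.Glue
import Cfsg.Agent.H903.SylMeet
import Cfsg.Agent.Involutions.BaerSuzuki
import Cfsg.Agent.S0144

/-!
# Tools for the rows `Row3 p T` of S5761 (helper233)

* `DD P x = P ∩ P ^ x` (a subgroup of `Aut T`);
* `g3_of_count` : counting;
* `card_bad` : an involution inverting an odd order subgroup `R` lies in at most `1/|R|` of the conjugates of `P`;
* `exists_inverted` : Baer–Suzuki;
* `g3_of_one` : it is enough that `P ∩ P ^ x` has at most one involution and `3 |P ∩ P ^ x| < |T : P ∩ T|`;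
* `fifteen_le` : `|T : P ∩ T| ≥ 15` for a 2-group `P`.
-/

set_option autoImplicit false

namespace Cfsg.Agent.H233.B3

open Subgroup Cfsg.Agent.H903.SylMeet

variable {p : ℕ} {T : Type*} [Group T]

/-- the property of `Row3` for one subgroup -/
def G3 (P : Subgroup (MulAut T)) : Prop :=
  ∃ a b : Fin 3 → T, ∀ i j, ∀ y ∈ P,
    MulAut.conj (a i) * y * (MulAut.conj (a j))⁻¹ ∈ P →
    MulAut.conj (b i) * y * (MulAut.conj (b j))⁻¹ ∈ P → i = j ∧ y = 1

theorem row3_iff : Row3 p T ↔ ∀ P : Subgroup (MulAut T), IsPGroup p P → G3 P := Iff.rfl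

theorem G3.mono {P P' : Subgroup (MulAut T)} (h : P ≤ P') (h' : G3 P') : G3 P := by
  obtain ⟨a, b, hab⟩ := h'
  exact ⟨a, b, fun i j y hy h1 h2 => hab i j y (h hy) (h h1) (h h2)⟩

theorem G3.of_conj {P P' : Subgroup (MulAut T)} (g : MulAut T) (h : ∀ y ∈ P, g * y * g⁻¹ ∈ P') (h' : G3 P') :
    G3 P := by
  obtain ⟨a, b, hab⟩ := h'
  have key : ∀ (c c' : T) (y : MulAut T), MulAut.conj (g⁻¹ c) * y * (MulAut.conj (g⁻¹ c'))⁻¹ ∈ P →
      MulAut.conj c * (g * y * g⁻¹) * (MulAut.conj c')⁻¹ ∈ P' := by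
    intro c c' y hy
    have h1 := h _ hy
    rw [← conj_apply_aut, ← conj_apply_aut] at h1
    have h2 : g * (g⁻¹ * MulAut.conj c * g⁻¹⁻¹ * y * (g⁻¹ * MulAut.conj c' * g⁻¹⁻¹)⁻¹) * g⁻¹ =
        MulAut.conj c * (g * y * g⁻¹) * (MulAut.conj c')⁻¹ := by group
    rwa [h2] at h1
  refine ⟨fun i => g⁻¹ (a i), fun i => g⁻¹ (b i), fun i j y hy h1 h2 => ?_⟩
  obtain ⟨h3, h4⟩ := hab i j (g * y * g⁻¹) (h y hy) (key _ _ _ h1) (key _ _ _ h2)
  refine ⟨h3, ?_⟩
  have : y = g⁻¹ * (g * y * g⁻¹) * g := by group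
  rw [this, h4]
  group

/-- One `p`-subgroup of index prime to `p` suffices. -/
theorem row3_of_index [Finite T] [Fact p.Prime] (P : Subgroup (MulAut T)) (hP : IsPGroup p P) (hi : ¬ p ∣ P.index)
    (h : G3 P) : Row3 p T := by
  intro Q hQ
  obtain ⟨S, hS⟩ := hQ.exists_le_sylow
  obtain ⟨g, hg⟩ := MulAction.exists_smul_eq (MulAut T) S (hP.toSylow hi)
  refine (G3.of_conj g ?_ h).mono hS
  intro y hy
  have h1 : g * y * g⁻¹ ∈ ((g • S : Sylow p (MulAut T)) : Subgroup (MulAut T)) := by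
    rw [Sylow.coe_subgroup_smul]
    exact Subgroup.smul_mem_pointwise_smul y (MulAut.conj g) _ hy
  rw [hg] at h1
  exact h1

theorem row3_of_sylow [Finite T] [Fact p.Prime] (h : ∀ S : Sylow p (MulAut T), G3 (S : Subgroup (MulAut T))) :
    Row3 p T := by
  intro Q hQ
  obtain ⟨S, hS⟩ := hQ.exists_le_sylow
  exact (h S).mono hS

/-- Invariance under isomorphism. -/
theorem Row3.congr {T' : Type*} [Group T'] (e : T ≃* T') (h : Row3 p T) : Row3 p T' := by
  intro P hP
  have hP' : IsPGroup p (P.comap (MulAut.congr e).toMonoidHom) :=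
    hP.comap_of_injective _ (MulAut.congr e).injective
  obtain ⟨a, b, hab⟩ := h _ hP'
  have key : ∀ t : T, (MulAut.congr e) (MulAut.conj t) = MulAut.conj (e t) := by
    intro t
    ext s
    simp [MulAut.congr]
  have key2 : ∀ (c c' : T) (y : MulAut T'), MulAut.conj (e c) * y * (MulAut.conj (e c'))⁻¹ ∈ P →
      MulAut.conj c * (MulAut.congr e).symm y * (MulAut.conj c')⁻¹ ∈ P.comap (MulAut.congr e).toMonoidHom := by
    intro c c' y hy
    rw [Subgroup.mem_comap]
    change (MulAut.congr e) (MulAut.conj c * (MulAut.congr e).symm y * (MulAut.conj c')⁻¹) ∈ P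
    rw [map_mul, map_mul, map_inv, key, key, MulEquiv.apply_symm_apply]
    exact hy
  refine ⟨fun i => e (a i), fun i => e (b i), fun i j y hy h1 h2 => ?_⟩
  obtain ⟨h3, h4⟩ := hab i j ((MulAut.congr e).symm y) (by
    rw [Subgroup.mem_comap]
    change (MulAut.congr e) ((MulAut.congr e).symm y) ∈ P
    rw [MulEquiv.apply_symm_apply]
    exact hy) (key2 _ _ _ h1) (key2 _ _ _ h2)
  refine ⟨h3, ?_⟩
  rw [← MulEquiv.apply_symm_apply (MulAut.congr e) y, h4, map_one]

/-! ### The subgroup `P ∩ P ^ x` -/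

/-- `P ∩ P ^ x` -/
def DD (P : Subgroup (MulAut T)) (x : T) : Subgroup (MulAut T) :=
  P ⊓ P.comap (MulAut.conj (MulAut.conj x)).toMonoidHom

theorem mem_DD {P : Subgroup (MulAut T)} {x : T} {y : MulAut T} :
    y ∈ DD P x ↔ y ∈ P ∧ MulAut.conj x * y * (MulAut.conj x)⁻¹ ∈ P := Iff.rfl

/-- the inner part -/
def inn (P : Subgroup (MulAut T)) : Subgroup T := P.comap MulAut.conj

theorem mem_inn {P : Subgroup (MulAut T)} {t : T} : t ∈ inn P ↔ MulAut.conj t ∈ P := Iff.rfl

open Classical in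
/-- **Counting.** -/
theorem g3_of_count [Finite T] {P : Subgroup (MulAut T)} (x : T)
    (h : 2 * (Nat.card (DD P x) * Nat.card (inn P)) <
      Nat.card {z : T // ∀ y ∈ DD P x, MulAut.conj z * y * (MulAut.conj z)⁻¹ ∈ P → y = 1}) : G3 P := by
  have _ : Fintype T := Fintype.ofFinite T
  have _ : Fintype (MulAut T) := Fintype.ofFinite _
  let D := DD P x
  let Good : Finset T := Finset.univ.filter fun z => ∀ y ∈ D, MulAut.conj z * y * (MulAut.conj z)⁻¹ ∈ P → y = 1
  have hGood : Nat.card {z : T // ∀ y ∈ DD P x, MulAut.conj z * y * (MulAut.conj z)⁻¹ ∈ P → y = 1} = Good.card := by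
    rw [Nat.card_eq_fintype_card, Fintype.card_subtype]
  rw [hGood] at h
  let one : T → MulAut T → Finset T := fun z y =>
    Finset.univ.filter fun z' => MulAut.conj z * y * (MulAut.conj z')⁻¹ ∈ P
  have hone : ∀ z y, (one z y).card ≤ Nat.card (inn P) := by
    intro z y
    rcases (one z y).eq_empty_or_nonempty with h0 | ⟨z0, hz0⟩
    · rw [h0]; simp
    · have hz0' : MulAut.conj z * y * (MulAut.conj z0)⁻¹ ∈ P := (Finset.mem_filter.1 hz0).2
      have hinj : Set.InjOn (fun z' => z' * z0⁻¹) (one z y : Set T) := fun _ _ _ _ h => mul_right_cancel h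
      rw [← Finset.card_image_of_injOn hinj, Nat.card_eq_fintype_card, ← Fintype.card_coe]
      refine Fintype.card_le_of_injective (fun w => (⟨w.1, ?_⟩ : inn P)) ?_
      · obtain ⟨z', hz', e⟩ := Finset.mem_image.1 w.2
        have hz'' : MulAut.conj z * y * (MulAut.conj z')⁻¹ ∈ P := (Finset.mem_filter.1 hz').2
        rw [mem_inn, ← e, map_mul, map_inv]
        have e1 : MulAut.conj z' * (MulAut.conj z0)⁻¹ =
            (MulAut.conj z * y * (MulAut.conj z')⁻¹)⁻¹ * (MulAut.conj z * y * (MulAut.conj z0)⁻¹) := by group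
        rw [e1]
        exact mul_mem (inv_mem hz'') hz0'
      · intro w w' hw
        exact Subtype.ext (congrArg (fun u : inn P => (u : T)) hw)
  let cls : T → Finset T := fun z => (Finset.univ.filter fun y : MulAut T => y ∈ D).biUnion (one z)
  have hcls : ∀ z, (cls z).card ≤ Nat.card D * Nat.card (inn P) := by
    intro z
    refine (Finset.card_biUnion_le_card_mul _ _ _ fun y _ => hone z y).trans ?_
    apply Nat.mul_le_mul_right
    rw [Nat.card_eq_fintype_card, Fintype.card_subtype]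
  have hmem : ∀ z z' y, y ∈ D → MulAut.conj z * y * (MulAut.conj z')⁻¹ ∈ P → z' ∈ cls z := by
    intro z z' y hy h1
    rw [Finset.mem_biUnion]
    exact ⟨y, by simpa using hy, by simpa [one] using h1⟩
  have hmem' : ∀ z z' y, y ∈ D → MulAut.conj z' * y * (MulAut.conj z)⁻¹ ∈ P → z' ∈ cls z := by
    intro z z' y hy h1
    apply hmem z z' y⁻¹ (inv_mem hy)
    have := inv_mem h1
    have e : (MulAut.conj z' * y * (MulAut.conj z)⁻¹)⁻¹ = MulAut.conj z * y⁻¹ * (MulAut.conj z')⁻¹ := by group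
    rwa [e] at this
  have hD : Nat.card (DD P x) * Nat.card (inn P) = Nat.card D * Nat.card (inn P) := rfl
  rw [hD] at h
  obtain ⟨z0, hz0⟩ : Good.Nonempty := by
    rw [← Finset.card_pos]; omega
  obtain ⟨z1, hz1, hz1'⟩ : ∃ z1 ∈ Good, z1 ∉ cls z0 := by
    by_contra hcon
    push Not at hcon
    have := Finset.card_le_card (s := Good) (t := cls z0) hcon
    have := hcls z0
    omega
  obtain ⟨z2, hz2, hz2'⟩ : ∃ z2 ∈ Good, z2 ∉ cls z0 ∪ cls z1 := by
    by_contra hcon
    push Not at hcon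
    have h1 := Finset.card_le_card (s := Good) (t := cls z0 ∪ cls z1) hcon
    have h2 := Finset.card_union_le (cls z0) (cls z1)
    have := hcls z0
    have := hcls z1
    omega
  rw [Finset.mem_union, not_or] at hz2'
  have hg : ∀ z ∈ Good, ∀ y ∈ D, MulAut.conj z * y * (MulAut.conj z)⁻¹ ∈ P → y = 1 :=
    fun z hz => (Finset.mem_filter.1 hz).2
  refine ⟨fun _ => x, ![z0, z1, z2], ?_⟩
  intro i j y hy h1 h2
  have hyD : y ∈ D := ⟨hy, h1⟩
  have key : i = j := by
    fin_cases i <;> fin_cases j <;> first | rfl | exfalso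
    · exact hz1' (hmem _ _ y hyD h2)
    · exact hz2'.1 (hmem _ _ y hyD h2)
    · exact hz1' (hmem' _ _ y hyD h2)
    · exact hz2'.2 (hmem _ _ y hyD h2)
    · exact hz2'.1 (hmem' _ _ y hyD h2)
    · exact hz2'.2 (hmem' _ _ y hyD h2)
  refine ⟨key, ?_⟩
  subst key
  fin_cases i
  · exact hg _ hz0 y hyD h2
  · exact hg _ hz1 y hyD h2
  · exact hg _ hz2 y hyD h2

/-! ### The density of an involution -/

/-- An involution `d` of `Aut T` inverting all elements of the odd order subgroup `R` of `T` lies in at most `|T|/|R|`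
conjugates `P ^ z`. -/
theorem card_bad [Finite T] (hinj : Function.Injective (MulAut.conj : T →* MulAut T))
    {P : Subgroup (MulAut T)} (hP : IsPGroup 2 P) {d : MulAut T}
    (R : Subgroup T) (hR : Odd (Nat.card R)) (hinv : ∀ c ∈ R, d c = c⁻¹) :
    Nat.card R * Nat.card {z : T // MulAut.conj z * d * (MulAut.conj z)⁻¹ ∈ P} ≤ Nat.card T := by
  classical
  have _ : Fintype T := Fintype.ofFinite T
  rw [← Nat.card_prod]
  refine Nat.card_le_card_of_injective
    (fun w : R × {z : T // MulAut.conj z * d * (MulAut.conj z)⁻¹ ∈ P} => (w.2 : T) * (w.1 : T)) ?_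
  rintro ⟨c, z, hz⟩ ⟨c', z', hz'⟩ h
  have h0 : z * (c : T) = z' * (c' : T) := h
  have e : z' = z * ((c : T) * (c' : T)⁻¹) := by rw [← mul_assoc, h0]; group
  set r : T := (c : T) * (c' : T)⁻¹ with hr
  have hrR : r ∈ R := mul_mem c.2 (inv_mem c'.2)
  -- `conj (z r) d conj (z r)⁻¹ = conj z conj (r²) d conj z⁻¹`
  have h1 : MulAut.conj z' * d * (MulAut.conj z')⁻¹ =
      MulAut.conj z * MulAut.conj (r * r) * d * (MulAut.conj z)⁻¹ := by
    have h2 : MulAut.conj r * d * (MulAut.conj r)⁻¹ = MulAut.conj (r * r) * d := by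
      rw [conj_mul_mul_inv, hinv r hrR, inv_inv]
    rw [e, map_mul, mul_inv_rev]
    calc MulAut.conj z * MulAut.conj r * d * ((MulAut.conj r)⁻¹ * (MulAut.conj z)⁻¹)
        = MulAut.conj z * (MulAut.conj r * d * (MulAut.conj r)⁻¹) * (MulAut.conj z)⁻¹ := by group
      _ = _ := by rw [h2]; group
  have h3 : MulAut.conj z * MulAut.conj (r * r) * (MulAut.conj z)⁻¹ ∈ P := by
    have h4 : MulAut.conj z * MulAut.conj (r * r) * (MulAut.conj z)⁻¹ =
        (MulAut.conj z' * d * (MulAut.conj z')⁻¹) * (MulAut.conj z * d * (MulAut.conj z)⁻¹)⁻¹ := by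
      rw [h1]; group
    rw [h4]
    exact mul_mem hz' (inv_mem hz)
  obtain ⟨k, hk⟩ := hP ⟨_, h3⟩
  have hk' : (MulAut.conj z * MulAut.conj (r * r) * (MulAut.conj z)⁻¹) ^ 2 ^ k = 1 := by
    simpa using congrArg Subtype.val hk
  rw [conj_pow, mul_inv_eq_one, mul_eq_left, ← map_pow, ← map_one (MulAut.conj : T →* MulAut T)] at hk'
  have h5 : (r * r) ^ 2 ^ k = 1 := hinj hk'
  have h6 : r ^ (2 ^ (k + 1)) = 1 := by
    rw [pow_succ', pow_mul, pow_two]
    exact h5
  have h7 : r = 1 := by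
    have h8 : orderOf r ∣ 2 ^ (k + 1) := orderOf_dvd_of_pow_eq_one h6
    have h9 : orderOf r ∣ Nat.card R := by
      have := orderOf_dvd_natCard (⟨r, hrR⟩ : R)
      rwa [← Subgroup.orderOf_coe] at this
    have h10 : Nat.Coprime (2 ^ (k + 1)) (Nat.card R) := Nat.Coprime.pow_left _ (Nat.coprime_two_left.2 hR)
    exact orderOf_eq_one_iff.1 (Nat.eq_one_of_dvd_coprimes h10 h8 h9)
  have h11 : (c : T) = c' := by
    rw [hr, mul_inv_eq_one] at h7
    exact h7
  have h12 : z = z' := by rw [e, h7, mul_one]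
  exact Prod.ext (Subtype.ext h11) (Subtype.ext h12)

/-- no nontrivial normal 2-subgroup in a group between `Inn T` and `Aut T` -/
theorem eq_one_of_normal [Finite T] [IsSimpleGroup T] (hT : ¬ IsMulCommutative T) (A : Subgroup (MulAut T))
    (hIA : ∀ t : T, MulAut.conj t ∈ A) (N : Subgroup A) (hNn : N.Normal) (h2 : IsPGroup 2 N) (d : A) (hd : d ∈ N) :
    (d : MulAut T) = 1 := by
  have hinj : Function.Injective (MulAut.conj : T →* MulAut T) := conj_injective hT
  have hNc : ∀ a ∈ A, ∀ y ∈ N.map A.subtype, a * y * a⁻¹ ∈ N.map A.subtype := by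
    rintro a ha _ ⟨n, hn, rfl⟩
    exact ⟨⟨a, ha⟩ * n * ⟨a, ha⟩⁻¹, hNn.conj_mem n hn _, rfl⟩
  have hdN' : (d : MulAut T) ∈ N.map A.subtype := ⟨_, hd, rfl⟩
  -- `N ∩ Inn T = 1`
  let K : Subgroup T := (N.map A.subtype).comap MulAut.conj
  have hKn : K.Normal := ⟨by
    intro t ht s
    have h3 := hNc (MulAut.conj s) (hIA s) (MulAut.conj t) ht
    rw [← map_mul, ← map_inv, ← map_mul] at h3
    exact h3⟩
  have hKp : IsPGroup 2 K := by
    have h3 : IsPGroup 2 (N.map A.subtype : Subgroup (MulAut T)) := h2.map _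
    exact h3.comap_of_injective _ hinj
  have hKb : K = ⊥ := by
    rcases hKn.eq_bot_or_eq_top with h | h
    · exact h
    · exfalso
      apply hT
      have h4 : IsPGroup 2 T := by
        intro t
        have ht : t ∈ K := by rw [h]; trivial
        obtain ⟨k, hk⟩ := hKp ⟨t, ht⟩
        exact ⟨k, by simpa using congrArg Subtype.val hk⟩
      have : Nontrivial T := IsSimpleGroup.toNontrivial
      have h5 := h4.center_nontrivial
      have h6 := center_eq_bot hT
      rw [h6] at h5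
      exact absurd h5 (not_nontrivial _)
  ext t
  have h7 : (d : MulAut T) * MulAut.conj t * (d : MulAut T)⁻¹ * (MulAut.conj t)⁻¹ ∈ N.map A.subtype := by
    have h3 := mul_mem hdN' (hNc (MulAut.conj t) (hIA t) (d : MulAut T)⁻¹ (inv_mem hdN'))
    simpa [mul_assoc] using h3
  rw [conj_apply_aut, ← map_inv, ← map_mul] at h7
  have h8 : (d : MulAut T) t * t⁻¹ ∈ K := h7
  rw [hKb, mem_bot, mul_inv_eq_one] at h8
  rw [h8]
  rfl

/-- elements of odd order in `⟨Inn T, d⟩` are inner -/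
theorem mem_inn_of_odd [Finite T] {d : MulAut T} (hd : d * d = 1) (h : MulAut T) (ho : Odd (orderOf h))
    (hh : h ∈ zpowers d ⊔ (MulAut.conj : T →* MulAut T).range) : ∃ r : T, MulAut.conj r = h := by
  have hIn : ((MulAut.conj : T →* MulAut T).range).Normal := ⟨by
    rintro _ ⟨t, rfl⟩ g
    exact ⟨g t, (conj_apply_aut g t).symm⟩⟩
  obtain ⟨y, hy, i, hi, e⟩ := Subgroup.mem_sup_of_normal_right.1 hh
  obtain ⟨k, rfl⟩ := mem_zpowers_iff.1 hy
  have h2 : h * h ∈ (MulAut.conj : T →* MulAut T).range := by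
    have e2 : h * h = (d ^ k * d ^ k) * ((d ^ k)⁻¹ * i * (d ^ k)⁻¹⁻¹) * i := by
      rw [← e]; group
    have e3 : d ^ k * d ^ k = 1 := by
      rw [← (Commute.refl d).mul_zpow, hd, one_zpow]
    rw [e2, e3, one_mul]
    exact mul_mem (hIn.conj_mem i hi _) hi
  obtain ⟨m, hm⟩ := ho
  have h3 : (h * h) ^ (m + 1) = h := by
    rw [← pow_two, ← pow_mul]
    have : 2 * (m + 1) = orderOf h + 1 := by omega
    rw [this, pow_succ, pow_orderOf_eq_one, one_mul]
  rw [← h3]
  exact pow_mem h2 _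

/-- **Baer–Suzuki.** An involution of `Aut T` inverts a nontrivial element of odd order of `T`. -/
theorem exists_inverted [Finite T] [IsSimpleGroup T] (hT : ¬ IsMulCommutative T) {d : MulAut T} (hd : d * d = 1)
    (hd1 : d ≠ 1) : ∃ R : Subgroup T, Odd (Nat.card R) ∧ 3 ≤ Nat.card R ∧ ∀ c ∈ R, d c = c⁻¹ := by
  have hinj : Function.Injective (MulAut.conj : T →* MulAut T) := conj_injective hT
  obtain ⟨A, hA⟩ : ∃ A : Subgroup (MulAut T), A = zpowers d ⊔ (MulAut.conj : T →* MulAut T).range := ⟨_, rfl⟩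
  have hdA : d ∈ A := by rw [hA]; exact (le_sup_left : zpowers d ≤ _) (mem_zpowers d)
  have hIA : ∀ t : T, MulAut.conj t ∈ A := by
    intro t
    rw [hA]
    exact (le_sup_right : (MulAut.conj : T →* MulAut T).range ≤ _) ⟨t, rfl⟩
  have hO : ¬ IsPGroup 2 (Subgroup.normalClosure {(⟨d, hdA⟩ : A)} : Subgroup A) := by
    intro h2
    exact hd1 (eq_one_of_normal hT A hIA _ Subgroup.normalClosure_normal h2 ⟨d, hdA⟩
      (Subgroup.subset_normalClosure rfl))
  obtain ⟨h, hh1, hh2, hh3⟩ := Cfsg.Agent.Involutions.BaerSuzuki.exists_odd_inverted (⟨d, hdA⟩ : A)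
    (Subtype.ext hd) hO
  rw [← Subgroup.orderOf_coe] at hh2
  obtain ⟨r, hr⟩ := mem_inn_of_odd hd (h : MulAut T) hh2 (by rw [← hA]; exact h.2)
  have hdr : d r = r⁻¹ := by
    apply hinj
    rw [← conj_apply_aut, map_inv, hr]
    exact congrArg Subtype.val hh3
  have ho : orderOf r = orderOf (h : MulAut T) := by
    rw [← hr]
    exact (orderOf_injective _ hinj r).symm
  have hodd : Odd (Nat.card (zpowers r)) := by
    rw [Nat.card_zpowers, ho]
    exact hh2
  refine ⟨zpowers r, hodd, ?_, ?_⟩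
  · have h1 : Nat.card (zpowers r) ≠ 1 := by
      rw [Nat.card_zpowers, ho, Ne, orderOf_eq_one_iff]
      exact fun h => hh1 (Subtype.ext h)
    obtain ⟨k, hk⟩ := hodd
    omega
  · intro c hc
    obtain ⟨k, rfl⟩ := mem_zpowers_iff.1 hc
    rw [map_zpow, hdr, inv_zpow]

end Cfsg.Agent.H233.B3
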