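import Cfsg.Agent.H233.B3.Row2
import Cfsg.Agent.H903.MeetInTwE6
import Cfsg.Agent.S2130
import Cfsg.Agent.SylowL5.TypeAGen

/-!
# S5761, p = 3: `|P ∩ P ^ x| ≤ 3` suffices; the row ²E₆(2) (helper233)
-/

set_option autoImplicit false

namespace Cfsg.Agent.H233.B3

open Subgroup Cfsg.Agent.H903.SylMeet

variable {T : Type*} [Group T]

/-- no nontrivial normal p-subgroup in a group between `Inn T` and `Aut T` -/
theorem eq_one_of_normal_p [Finite T] [IsSimpleGroup T] (hT : ¬ IsMulCommutative T) {p : ℕ} [Fact p.Prime]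
    (A : Subgroup (MulAut T)) (hIA : ∀ t : T, MulAut.conj t ∈ A) (N : Subgroup A) (hNn : N.Normal)
    (h2 : IsPGroup p N) (d : A) (hd : d ∈ N) : (d : MulAut T) = 1 := by
  have hinj : Function.Injective (MulAut.conj : T →* MulAut T) := conj_injective hT
  have hNc : ∀ a ∈ A, ∀ y ∈ N.map A.subtype, a * y * a⁻¹ ∈ N.map A.subtype := by
    rintro a ha _ ⟨n, hn, rfl⟩
    exact ⟨⟨a, ha⟩ * n * ⟨a, ha⟩⁻¹, hNn.conj_mem n hn _, rfl⟩
  have hdN' : (d : MulAut T) ∈ N.map A.subtype := ⟨_, hd, rfl⟩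
  let K : Subgroup T := (N.map A.subtype).comap MulAut.conj
  have hKn : K.Normal := ⟨by
    intro t ht s
    have h3 := hNc (MulAut.conj s) (hIA s) (MulAut.conj t) ht
    rw [← map_mul, ← map_inv, ← map_mul] at h3
    exact h3⟩
  have hKp : IsPGroup p K := by
    have h3 : IsPGroup p (N.map A.subtype : Subgroup (MulAut T)) := h2.map _
    exact h3.comap_of_injective _ hinj
  have hKb : K = ⊥ := by
    rcases hKn.eq_bot_or_eq_top with h | h
    · exact h
    · exfalso
      apply hT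
      have h4 : IsPGroup p T := by
        intro t
        have ht : t ∈ K := by rw [h]; trivial
        obtain ⟨k, hk⟩ := hKp ⟨t, ht⟩
        exact ⟨k, by simpa using congrArg Subtype.val hk⟩
      have : Nontrivial T := IsSimpleGroup.toNontrivial
      have h5 := h4.center_nontrivial
      have h6 := center_eq_bot hT
      rw [h6] at h5
      exact absurd h5 (not_nontrivial _)
  ext t
  have h7 : (d : MulAut T) * MulAut.conj t * (d : MulAut T)⁻¹ * (MulAut.conj t)⁻¹ ∈ N.map A.subtype := by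
    have h3 := mul_mem hdN' (hNc (MulAut.conj t) (hIA t) (d : MulAut T)⁻¹ (inv_mem hdN'))
    simpa [mul_assoc] using h3
  rw [conj_apply_aut, ← map_inv, ← map_mul] at h7
  have h8 : (d : MulAut T) t * t⁻¹ ∈ K := h7
  rw [hKb, mem_bot, mul_inv_eq_one] at h8
  rw [h8]
  rfl

/-- `⟨d, a d a⁻¹⟩` is a `p`-group if a conjugate lies in `P` -/
theorem pgroup_aux {B : Type*} [Group B] {p : ℕ} {P A : Subgroup B} (hP : IsPGroup p P) {d a c : B} (hdA : d ∈ A)
    (ha : a ∈ A) (hc1 : c * d * c⁻¹ ∈ P) (hc2 : c * (a * d * a⁻¹) * c⁻¹ ∈ P) :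
    IsPGroup p (Subgroup.closure {(⟨d, hdA⟩ : A), ⟨a, ha⟩ * ⟨d, hdA⟩ * ⟨a, ha⟩⁻¹} : Subgroup A) := by
  have hinj : Function.Injective ((MulAut.conj c).toMonoidHom.comp A.subtype) :=
    (MulAut.conj c).injective.comp A.subtype_injective
  refine (hP.comap_of_injective _ hinj).to_le ?_
  rw [Subgroup.closure_le]
  intro w hw
  rcases hw with rfl | hw
  · exact hc1
  · rw [Set.mem_singleton_iff] at hw
    subst hw
    exact hc2

open Classical in
/-- **Baer–Suzuki**: at most half of the conjugates of `d ≠ 1` lie in the `p`-group `P`. -/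
theorem half_bad [Finite T] [IsSimpleGroup T] (hT : ¬ IsMulCommutative T) {p : ℕ} [Fact p.Prime]
    {P : Subgroup (MulAut T)} (hP : IsPGroup p P) {d : MulAut T} (hd1 : d ≠ 1) :
    2 * Nat.card {z : T // MulAut.conj z * d * (MulAut.conj z)⁻¹ ∈ P} ≤ Nat.card T := by
  by_contra hcon
  push Not at hcon
  have _ : Fintype T := Fintype.ofFinite T
  obtain ⟨A, hA⟩ : ∃ A : Subgroup (MulAut T), A = zpowers d ⊔ (MulAut.conj : T →* MulAut T).range := ⟨_, rfl⟩
  have hdA : d ∈ A := by rw [hA]; exact (le_sup_left : zpowers d ≤ _) (mem_zpowers d)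
  have hIA : ∀ t : T, MulAut.conj t ∈ A := by
    intro t
    rw [hA]
    exact (le_sup_right : (MulAut.conj : T →* MulAut T).range ≤ _) ⟨t, rfl⟩
  have hIn : ((MulAut.conj : T →* MulAut T).range).Normal := ⟨by
    rintro _ ⟨t, rfl⟩ g
    exact ⟨g t, (conj_apply_aut g t).symm⟩⟩
  let X : Finset T := Finset.univ.filter fun z => MulAut.conj z * d * (MulAut.conj z)⁻¹ ∈ P
  have hX : Nat.card {z : T // MulAut.conj z * d * (MulAut.conj z)⁻¹ ∈ P} = X.card := by
    rw [Nat.card_eq_fintype_card, Fintype.card_subtype]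
  rw [hX, Nat.card_eq_fintype_card] at hcon
  -- `⟨d, d ^ g⟩` is a `p`-group for `g ∈ T`
  have key : ∀ g : T, ∃ z : T, MulAut.conj z * d * (MulAut.conj z)⁻¹ ∈ P ∧
      MulAut.conj z * (MulAut.conj g * d * (MulAut.conj g)⁻¹) * (MulAut.conj z)⁻¹ ∈ P := by
    intro g
    let Y : Finset T := X.image fun z => z * g⁻¹
    have hY : Y.card = X.card := Finset.card_image_of_injective _ (mul_left_injective _)
    have hne : (X ∩ Y).Nonempty := by
      rw [← Finset.card_pos]
      have h1 := Finset.card_union_add_card_inter X Y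
      have h2 : (X ∪ Y).card ≤ Fintype.card T := Finset.card_le_univ _
      omega
    obtain ⟨z, hz⟩ := hne
    obtain ⟨hz1, hz2⟩ := Finset.mem_inter.1 hz
    obtain ⟨w, hw, rfl⟩ := Finset.mem_image.1 hz2
    refine ⟨w * g⁻¹, (Finset.mem_filter.1 hz1).2, ?_⟩
    have h3 : MulAut.conj w * d * (MulAut.conj w)⁻¹ ∈ P := (Finset.mem_filter.1 hw).2
    have e : MulAut.conj (w * g⁻¹) * (MulAut.conj g * d * (MulAut.conj g)⁻¹) * (MulAut.conj (w * g⁻¹))⁻¹ =
        MulAut.conj w * d * (MulAut.conj w)⁻¹ := by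
      rw [map_mul, map_inv]; group
    rw [e]
    exact h3
  have hB : IsPGroup p (Subgroup.normalClosure {(⟨d, hdA⟩ : A)} : Subgroup A) := by
    apply Cfsg.Agent.Involutions.BaerSuzuki.baer_suzuki_element
    rintro ⟨a, ha⟩
    obtain ⟨k, hk, i, hi, e⟩ := Subgroup.mem_sup_of_normal_right.1 (hA ▸ ha)
    obtain ⟨j, rfl⟩ := mem_zpowers_iff.1 hk
    obtain ⟨g, rfl⟩ := hi
    -- `a = d ^ j * conj g`; conjugating by `d ^ j` we may work with `g' = g`
    obtain ⟨z, hz1, hz2⟩ := key g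
    -- `c := conj z * (d ^ j)⁻¹` moves `d` and `a d a⁻¹` into `P`
    obtain ⟨c, hc⟩ : ∃ c : MulAut T, c = MulAut.conj z * (d ^ j)⁻¹ := ⟨_, rfl⟩
    have hc1 : c * d * c⁻¹ ∈ P := by
      have e1 : c * d * c⁻¹ = MulAut.conj z * ((d ^ j)⁻¹ * d * d ^ j) * (MulAut.conj z)⁻¹ := by rw [hc]; group
      have e2 : (d ^ j)⁻¹ * d * d ^ j = d := by group
      rw [e1, e2]
      exact hz1
    have hc2 : c * (a * d * a⁻¹) * c⁻¹ ∈ P := by
      have e1 : c * (a * d * a⁻¹) * c⁻¹ =
          MulAut.conj z * (MulAut.conj g * d * (MulAut.conj g)⁻¹) * (MulAut.conj z)⁻¹ := by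
        rw [hc, ← e]; group
      rw [e1]
      exact hz2
    exact pgroup_aux hP hdA ha hc1 hc2
  exact hd1 (eq_one_of_normal_p hT A hIA _ Subgroup.normalClosure_normal hB ⟨d, hdA⟩
    (Subgroup.subset_normalClosure rfl))

/-- **`|P ∩ P ^ x| ≤ p`.** -/
theorem g3_of_prime [Finite T] [IsSimpleGroup T] (hT : ¬ IsMulCommutative T) {p : ℕ} [Fact p.Prime]
    {P : Subgroup (MulAut T)} (hP : IsPGroup p P) (x : T) (hc : Nat.card (DD P x) ≤ p)
    (hn : 4 * p < (inn P).index) : G3 P := by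
  have hp : p.Prime := Fact.out
  have hcard := Subgroup.index_mul_card (inn P)
  have hpos : 0 < Nat.card (inn P) := Nat.card_pos
  apply g3_of_count x
  have hDp : IsPGroup p (DD P x) := hP.to_le inf_le_left
  have h4 : 4 * (Nat.card (DD P x) * Nat.card (inn P)) < Nat.card T := by
    rw [← hcard, ← mul_assoc]
    exact Nat.mul_lt_mul_of_pos_right (lt_of_le_of_lt (Nat.mul_le_mul_left 4 hc) hn) hpos
  by_cases hex : ∃ d ∈ DD P x, d ≠ 1
  · obtain ⟨d, hd, hd1⟩ := hex
    -- `DD P x` has prime order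
    obtain ⟨k, hk⟩ := IsPGroup.iff_card.1 hDp
    have hk1 : k = 1 := by
      have h1 : k ≠ 0 := by
        rintro rfl
        rw [pow_zero] at hk
        have h2 : DD P x = ⊥ := Subgroup.eq_bot_of_card_eq _ hk
        rw [h2, mem_bot] at hd
        exact hd1 hd
      have h2 : k < 2 := by
        by_contra h
        push Not at h
        have h3 : p ^ 2 ≤ p ^ k := Nat.pow_le_pow_right hp.pos h
        have h4 : p * 2 ≤ p ^ 2 := by rw [pow_two]; exact Nat.mul_le_mul_left p hp.two_le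
        have := hp.pos
        omega
      omega
    rw [hk1, pow_one] at hk
    have hgen : ∀ y ∈ DD P x, y ≠ 1 → ∃ j : ℤ, y ^ j = d := by
      intro y hy hy1
      have h1 : zpowers (⟨y, hy⟩ : DD P x) = ⊤ := by
        have hF : Fact (Nat.card (DD P x)).Prime := ⟨by rw [hk]; exact hp⟩
        exact zpowers_eq_top_of_prime_card rfl (fun h => hy1 (congrArg Subtype.val h))
      have h2 : (⟨d, hd⟩ : DD P x) ∈ zpowers (⟨y, hy⟩ : DD P x) := by rw [h1]; trivial
      obtain ⟨j, hj⟩ := mem_zpowers_iff.1 h2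
      exact ⟨j, congrArg Subtype.val hj⟩
    have hbad := half_bad hT hP hd1
    have hle : Nat.card {z : T // ¬ MulAut.conj z * d * (MulAut.conj z)⁻¹ ∈ P} ≤
        Nat.card {z : T // ∀ y ∈ DD P x, MulAut.conj z * y * (MulAut.conj z)⁻¹ ∈ P → y = 1} := by
      refine Nat.card_le_card_of_injective (fun z => ⟨z.1, fun y hy hyz => ?_⟩) ?_
      · by_contra hy1
        obtain ⟨j, hj⟩ := hgen y hy hy1
        apply z.2
        have h1 := zpow_mem hyz j
        rw [conj_zpow, hj] at h1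
        exact h1
      · intro z z' h
        have h' := congrArg (fun w : {z : T // ∀ y ∈ DD P x, MulAut.conj z * y * (MulAut.conj z)⁻¹ ∈ P → y = 1} => (w : T)) h
        exact Subtype.ext h'
    have hsum : Nat.card {z : T // MulAut.conj z * d * (MulAut.conj z)⁻¹ ∈ P} +
        Nat.card {z : T // ¬ MulAut.conj z * d * (MulAut.conj z)⁻¹ ∈ P} = Nat.card T := by
      classical
      have _ : Fintype T := Fintype.ofFinite T
      rw [← Nat.card_sum]
      exact Nat.card_congr (Equiv.sumCompl _)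
    refine lt_of_lt_of_le ?_ hle
    omega
  · have hle : Nat.card T ≤
        Nat.card {z : T // ∀ y ∈ DD P x, MulAut.conj z * y * (MulAut.conj z)⁻¹ ∈ P → y = 1} := by
      refine Nat.card_le_card_of_injective (fun z => ⟨z, fun y hy _ => ?_⟩) ?_
      · by_contra hy1
        exact hex ⟨y, hy, hy1⟩
      · intro z z' h
        exact congrArg (fun w : {z : T // ∀ y ∈ DD P x, MulAut.conj z * y * (MulAut.conj z)⁻¹ ∈ P → y = 1} => (w : T)) h
    refine lt_of_lt_of_le ?_ hle
    omega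

/-- a 3-subgroup of a nonabelian simple group has index greater than 12 -/
theorem twelve_lt [Finite T] [IsSimpleGroup T] (hT : ¬ IsMulCommutative T) (Q : Subgroup T) (hQ : IsPGroup 3 Q) :
    12 < Q.index := by
  have hF : Fact (Nat.Prime 3) := ⟨Nat.prime_three⟩
  obtain ⟨S, hS⟩ := hQ.exists_le_sylow
  have h1 : (S : Subgroup T).index ∣ Q.index := Subgroup.index_dvd_of_le hS
  have h0 : Q.index ≠ 0 := Subgroup.index_ne_zero_of_finite
  refine lt_of_lt_of_le ?_ (Nat.le_of_dvd (Nat.pos_of_ne_zero h0) h1)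
  by_contra hlt
  push Not at hlt
  have h2 : ¬ 3 ∣ (S : Subgroup T).index := S.not_dvd_index
  obtain ⟨a, ha⟩ := S.isPGroup'.exists_card_eq
  have h3 := Subgroup.index_mul_card (S : Subgroup T)
  have hcS : Nat.card (S : Subgroup T) = 3 ^ a := ha
  rw [hcS] at h3
  have hns : ¬ Group.IsSolvable T := by
    intro hs
    apply hT
    have hc := IsSimpleGroup.comm_iff_isSolvable.2 hs
    exact ⟨⟨hc⟩⟩
  have key : ∀ r b : ℕ, r.Prime → (S : Subgroup T).index = r ^ b → False := by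
    intro r b hr hb
    exact hns (Cfsg.Agent.S0144.result 3 r a b Nat.prime_three hr (by rw [← h3, hb, mul_comm]))
  have hpos : 0 < (S : Subgroup T).index := Nat.pos_of_ne_zero Subgroup.index_ne_zero_of_finite
  have h4 : 4 ∣ Nat.card T := by
    by_contra h
    exact hns (Cfsg.Agent.SylowL5.TypeAGen.isSolvable_of_not_four_dvd h)
  have h5 : 4 ∣ (S : Subgroup T).index := by
    rw [← h3] at h4
    exact (Nat.Coprime.pow_right a (by norm_num : Nat.Coprime 4 3)).dvd_of_dvd_mul_right h4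
  generalize (S : Subgroup T).index = m at *
  interval_cases m
  · omega
  · omega
  · omega
  · exact key 2 2 (by norm_num) (by norm_num)
  · omega
  · omega
  · omega
  · exact key 2 3 (by norm_num) (by norm_num)
  · omega
  · omega
  · omega
  · omega

/-- **`MeetIn 3 T` and `|Out T| ≤ 6`.** -/
theorem row3_three_of_meetIn [Finite T] [IsSimpleGroup T] (hT : ¬ IsMulCommutative T)
    (h : ∀ R : Subgroup T, IsPGroup 3 R → ∃ x : T, ∀ y ∈ R, x * y * x⁻¹ ∈ R → y = 1)
    (ho : Nat.card (Cfsg.Out T) ≤ 8) : Row3 3 T := by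
  have hF : Fact (Nat.Prime 3) := ⟨Nat.prime_three⟩
  intro P hP
  obtain ⟨x, hx⟩ := exists_of_meetIn hT h hP
  have h1 : Nat.card (DD P x) ≤ 8 := (card_DD_le _ hx).trans ho
  have hDp : IsPGroup 3 (DD P x) := hP.to_le inf_le_left
  obtain ⟨k, hk⟩ := IsPGroup.iff_card.1 hDp
  have hk1 : k < 2 := by
    by_contra h2
    push Not at h2
    have h3 : 3 ^ 2 ≤ 3 ^ k := Nat.pow_le_pow_right (by norm_num) h2
    omega
  have h2 : Nat.card (DD P x) ≤ 3 := by
    rw [hk]
    interval_cases k <;> norm_num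
  have h3 := twelve_lt hT (inn P) (inn_pgroup hT hP)
  exact g3_of_prime hT hP x h2 (by omega)

open Cfsg.Lie in
/-- **²E₆(2), p = 3.** -/
theorem row3_2E6 {K : Type} [Field K] [Fintype K] (hK : Fintype.card K = 4) [IsSimpleGroup ↥(twistedE6 K 2)]
    (hT : ¬ IsMulCommutative ↥(twistedE6 K 2)) : Row3 3 ↥(twistedE6 K 2) := by
  have : Finite (GL chevE6.Idx K) := inferInstance
  have hF2 : Fact (Nat.Prime 2) := ⟨Nat.prime_two⟩
  have hch : CharP K 2 := by
    obtain ⟨q, hq⟩ := CharP.exists K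
    obtain ⟨n, hp, hn⟩ := FiniteField.card K q
    rw [hK] at hn
    have h1 : q ∣ 4 := hn ▸ dvd_pow_self q n.pos.ne'
    have h1' : q ∣ 2 ^ 2 := by norm_num; exact h1
    have h2 : q = 2 := (Nat.prime_dvd_prime_iff_eq hp Nat.prime_two).1 (hp.dvd_of_dvd_pow h1')
    rwa [h2] at hq
  have ho := Cfsg.Agent.S2130.result (K := K) 2 1 (by rw [hK]; norm_num) le_rfl
  rw [pow_one] at ho
  refine row3_three_of_meetIn hT (Cfsg.Agent.H903.MeetInTwE6.meetIn3_2E6_two hK) ?_
  rw [ho]
  norm_num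

end Cfsg.Agent.H233.B3
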